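import Groth.Agent.CMRegLib.Bounded
import Groth.Agent.HilbStratLib.ProjFibre
import Groth.Prelude.Def_Pic13

/-!
# Bounded families of regular modules over an arbitrary field
-/

set_option autoImplicit false
set_option linter.style.haveILetI false
set_option backward.isDefEq.respectTransparency false
set_option maxHeartbeats 800000

universe u

open CategoryTheory CategoryTheory.Limits AlgebraicGeometry TopologicalSpace Opposite
open Groth.Agent.DCohLib Groth.Agent.PullbackMod Groth.Agent.CMRegLib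

noncomputable section

namespace Groth.Agent.CurveBddLib

variable {k : Type u} [Field k] {n : ℕ} {X : Scheme.{u}} (i : X ⟶ CohB1.ProjSpace n k) [IsClosedImmersion i]
  [X.Over (Spec (CommRingCat.of k))]

local notation "PS" => CohB1.ProjSpace n k
local notation "O(" d ")" => Twist.twistProjSpace n k d

/-- Quotients of a free module with given Hilbert polynomial have uniformly vanishing twists. -/
theorem quot_bound' (hi : i ≫ CohB1.ProjSpace.toSpec n k = X ↘ Spec (CommRingCat.of k))
    (N : ℕ) (P : Polynomial ℚ) :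
    ∃ M : ℤ, ∀ (F : X.Modules) (q : FlatMod.freeMod X N ⟶ F), Coh.IsCoh F → Epi q →
      (∀ m : ℕ, (Curv2.euler k X (Pic13.twistOn k i F m) : ℚ) = P.eval (m : ℚ)) → ∀ j, M ≤ j →
        (∀ p : ℕ, 0 < p → Subsingleton (Coh.HH X (Pic13.twistOn k i F j) p)) ∧
        (∀ p : ℕ, 0 < p → Subsingleton (Coh.HH X (Pic13.twistOn k i (kernel q) j) p)) ∧
        Curv2.IsGloballyGenerated (Pic13.twistOn k i (kernel q) j) := by
  haveI : IsProper (PS ↘ Spec (CommRingCat.of k)) := CompleteCurve.isProper_toSpec n k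
  haveI := isNoetherian_projSpace (k := k) (n := n)
  haveI := isLocallyNoetherian_source i
  have hfree : Coh.IsCoh (FlatMod.freeMod X N) := isCoh_sigma_fin _ fun _ => DevLib.isCoh_structureModule _
  obtain ⟨α, hα⟩ := exists_epi_free_push i N
  obtain ⟨d₀, hd₀⟩ := exists_vanish_all i hfree
  let f : ℤ → ℤ := fun r => N * Ring.choose (r + n) n - ⌊P.eval (r : ℚ)⌋
  refine ⟨max (max (mumB n N (n + 1) f) d₀) 0 + n + 1, fun F q hF hq hP => ?_⟩
  let j₀ := max (max (mumB n N (n + 1) f) d₀) 0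
  have hG : Coh.IsCoh (kernel q) := (QCohLib.isCoh_kernel_cokernel q hfree hF).1
  let π := (Scheme.Modules.pushforward i).map q
  haveI : Epi π := DCohMore.epi_push_of_qcoh (f := i) hfree.1 hF.1 q
  haveI : Mono ((Scheme.Modules.pushforward i).map (kernel.ι q)) := inferInstance
  have hS : (ShortComplex.mk ((Scheme.Modules.pushforward i).map (kernel.ι q)) π
      (by rw [← Functor.map_comp, kernel.condition, Functor.map_zero])).ShortExact :=
    ShortComplex.ShortExact.mk' (ShortComplex.exact_of_f_is_kernel _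
      (isLimitOfHasKernelOfPreservesLimit (Scheme.Modules.pushforward i) q)) inferInstance inferInstance
  have hF' := isCoh_push_closed i hF
  haveI : Epi (α ≫ π) := epi_comp _ _
  have hK := shortExact_ker (α ≫ π)
  have hKcoh : Coh.IsCoh (kernel (α ≫ π)) :=
    (QCohLib.isCoh_kernel_cokernel (α ≫ π) (isCoh_freeMod N) hF').1
  have hreg : Curv2.IsMRegular k n (kernel (α ≫ π)) (mumB n N (n + 1) f) := by
    rcases Nat.eq_zero_or_pos n with hn | hn
    · intro p hp hpn; omega
    refine regular_of_sub_free (kernel.ι (α ≫ π)) hKcoh f fun r => ?_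
    obtain ⟨Q, hQ⟩ := HilbStratLib.exists_euler_poly (k := k) hF'
    have hQP : Q = P := by
      refine Polynomial.eq_of_infinite_eval_eq _ _ (Set.Infinite.mono (s := Set.range fun m : ℕ => (m : ℚ)) ?_
        (Set.infinite_range_of_injective Nat.cast_injective))
      rintro _ ⟨m, rfl⟩
      show Q.eval ((m : ℕ) : ℚ) = P.eval ((m : ℕ) : ℚ)
      rw [← hP m, ← Int.cast_natCast m, ← hQ]
      exact congrArg Int.cast (IntLib.euler_push_tensor k hi hF (isInvertible_O (m : ℤ)))
    have h := euler_tw (kernel.ι (α ≫ π)) (α ≫ π) (kernel.condition _) hK hKcoh (isCoh_freeMod N) hF' r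
    rw [euler_freeMod_tw hn] at h
    show _ = (N : ℤ) * Ring.choose (r + n) n - ⌊P.eval (r : ℚ)⌋
    rw [← hQP, ← hQ r, Int.floor_intCast]
    exact eq_sub_of_add_eq h.symm
  have hbound : ∀ j, j₀ ≤ j → mumB n N (n + 1) f ≤ j ∧ d₀ ≤ j ∧ 0 ≤ j := fun j hj =>
    ⟨le_trans (le_trans (le_max_left _ _) (le_max_left _ _)) hj,
      le_trans (le_trans (le_max_right _ _) (le_max_left _ _)) hj, le_trans (le_max_right _ _) hj⟩
  have hFv : ∀ j, j₀ ≤ j → ∀ p : ℕ, 0 < p → HT ((Scheme.Modules.pushforward i).obj F) j p := fun j hj p hp =>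
    HT.right hK (HT_freeMod N j hp (by have := (hbound j hj).2.2; omega))
      (vanish_ge hKcoh hreg (by omega) (by have := (hbound j hj).1; omega))
  have hGv : ∀ j, j₀ ≤ j → ∀ p : ℕ, 0 < p → HT ((Scheme.Modules.pushforward i).obj (kernel q)) j p := by
    intro j hj p hp
    obtain ⟨b, rfl⟩ : ∃ b, p = b + 1 := ⟨p - 1, by omega⟩
    rcases Nat.eq_zero_or_pos b with rfl | hb
    · refine subsingleton_one_of_surjective (k := k) (shortExact_twSeq hS j) (hd₀ 1 one_pos j (hbound j hj).2.1) ?_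
      intro z
      have hT := shortExact_twSeq hK j
      haveI : Subsingleton (Coh.HH PS (twSeq (ShortComplex.mk _ (α ≫ π) (kernel.condition _)) j).X₁ (0 + 1)) :=
        vanish_ge hKcoh hreg le_rfl (by have := (hbound j hj).1; omega)
      have hsurj : Function.Surjective
          (CurveLib.hMap (k := k) ((CurveLib.tensR (O(j))).map (α ≫ π)) 0) := by
        refine LinearMap.range_eq_top.1 ?_
        refine (CurveLib.range_hMap_g hT 0).trans ?_
        rw [LinearMap.ker_eq_top]
        exact LinearMap.ext fun _ => Subsingleton.elim _ _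
      obtain ⟨y, hy⟩ := hsurj z
      refine ⟨CurveLib.hMap (k := k) ((CurveLib.tensR (O(j))).map α) 0 y, ?_⟩
      refine Eq.trans ?_ hy
      refine Eq.trans ?_ (congrArg (fun φ => CurveLib.hMap (k := k) φ 0 y)
        ((CurveLib.tensR (O(j))).map_comp α π).symm)
      exact (hMap_comp _ _ 0 y).symm
    · exact HT.left hS (hd₀ _ hp j (hbound j hj).2.1) (hFv j hj b hb)
  intro j hj
  have hj' : j₀ ≤ j := by simp only [j₀]; omega
  refine ⟨fun p hp => (HT_push_iff i hF j p).1 (hFv j hj' p hp),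
    fun p hp => (HT_push_iff i hG j p).1 (hGv j hj' p hp), ?_⟩
  have hD : DataReg (xData k i (kernel q)) j := fun p hp => (HT_push_iff i hG (j - p) p).1 <| by
    rcases le_or_gt p (n + 1) with hn | hn
    · exact hGv _ (by simp only [j₀]; omega) p hp
    · exact vanish_high (isCoh_push_closed i hG) _ (by omega)
  exact hD.globallyGenerated (spanAt_eventually k i hG)

theorem isBounded_quot' (hi : i ≫ CohB1.ProjSpace.toSpec n k = X ↘ Spec (CommRingCat.of k))
    (N : ℕ) (m e : ℤ) :
    Pic13.IsBounded k X (fun F : X.Modules => Coh.IsCoh F ∧ ∃ q : FlatMod.freeMod X N ⟶ Pic13.twistOn k i F m,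
      Epi q ∧ Curv2.IsGloballyGenerated (Pic13.twistOn k i (kernel q) e)) := by
  classical
  haveI : IsProper (X ↘ Spec (CommRingCat.of k)) := by
    haveI : IsProper (CohB1.ProjSpace.toSpec n k) := CompleteCurve.isProper_toSpec n k
    rw [← hi]; infer_instance
  haveI := EulerIneqLib.isNoetherian_proper (X := X) k
  have hfree : Coh.IsCoh (FlatMod.freeMod X N) := isCoh_sigma_fin _ fun _ => DevLib.isCoh_structureModule _
  let A := Pic13.twistOn k i (FlatMod.freeMod X N) e
  let D := Module.finrank k (Coh.HH X A 0)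
  obtain ⟨T, t, h1, h2, U, hU, hb⟩ := isBounded_cokernels k D (A := A) (xIsCoh_twist hfree e)
    (AmpleLib.isInvertible_pullback i (isInvertible_O (-(m + e))))
  refine ⟨T, t, h1, h2, U, hU, fun F ⟨hF, q, hq, hgg⟩ => hb F ?_⟩
  haveI := hq
  have hF' : Coh.IsCoh (Pic13.twistOn k i F m) := xIsCoh_twist hF m
  have hS := xShortExact k i (shortExact_ker q) e
  have hG : Coh.IsCoh (Pic13.twistOn k i (kernel q) e) :=
    xIsCoh_twist (QCohLib.isCoh_kernel_cokernel q hfree hF').1 e
  haveI := EulerIneqLib.finite_HH (k := k) (X := X) hG 0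
  haveI := EulerIneqLib.finite_HH (k := k) (X := X) (xIsCoh_twist hfree (i := i) e) 0
  obtain ⟨ψ, hψ⟩ := exists_epi_of_gg k hgg
  let r := Module.finrank k (Coh.HH X (Pic13.twistOn k i (kernel q) e) 0)
  have hr : r ≤ D := by
    let S' := (ShortComplex.mk (kernel.ι q) q (kernel.condition q)).map (xTens k i e)
    let e1 : Pic13.twistOn k i (kernel q) e ≅ S'.X₁ := Iso.refl _
    let e2 : S'.X₂ ≅ Pic13.twistOn k i (FlatMod.freeMod X N) e := Iso.refl _
    have hc : Coh.IsCoh S'.X₂ := xIsCoh_twist (k := k) (i := i) hfree e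
    exact ((hh_finrank_iso (k := k) e1 0).le.trans (finrank_H0_left (k := k) (S := S') hS hc)).trans
      (hh_finrank_iso (k := k) e2 0).le
  let pad : FlatMod.freeMod X D ⟶ FlatMod.freeMod X r :=
    Sigma.desc fun a => if h : (a : ℕ) < r then Sigma.ι (fun _ : Fin r => Coh.structureModule X) ⟨a, h⟩ else 0
  haveI : IsSplitEpi pad := ⟨⟨⟨Sigma.desc fun a =>
      Sigma.ι (fun _ : Fin D => Coh.structureModule X) (Fin.castLE hr a),
    Sigma.hom_ext _ _ fun a => by simp [pad]⟩⟩⟩
  let u : FlatMod.freeMod X D ⟶ A := (pad ≫ ψ) ≫ (xTens k i e).map (kernel.ι q)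
  haveI : Epi (pad ≫ ψ) := epi_comp _ _
  let c : cokernel u ≅ Pic13.twistOn k i F (m + e) :=
    cokernelEpiComp (pad ≫ ψ) ((xTens k i e).map (kernel.ι q)) ≪≫
      (colimit.isColimit _).coconePointUniqueUpToIso hS.gIsCokernel ≪≫ xMulIso k i F rfl
  exact ⟨u, ⟨(xZero i F).symm ≪≫ (xMulIso k i F (show (m + e) + -(m + e) = 0 by ring)).symm ≪≫
    AmpleLib.tIso c.symm (Iso.refl _)⟩⟩

theorem isBounded_regular' (hi : i ≫ CohB1.ProjSpace.toSpec n k = X ↘ Spec (CommRingCat.of k))
    (m : ℤ) (φ : Polynomial ℚ) :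
    Pic13.IsBounded k X (fun F : X.Modules => Coh.IsCoh F ∧ Pic13.IsMRegular k i F m ∧
      ∀ d : ℤ, (FGA.eulerCharLE k X (Pic13.twistOn k i F d) n : ℚ) = φ.eval (d : ℚ)) := by
  classical
  haveI : IsProper (X ↘ Spec (CommRingCat.of k)) := by
    haveI : IsProper (CohB1.ProjSpace.toSpec n k) := CompleteCurve.isProper_toSpec n k
    rw [← hi]; infer_instance
  haveI := EulerIneqLib.isNoetherian_proper (X := X) k
  let N : ℕ := ⌊φ.eval (m : ℚ)⌋.toNat
  obtain ⟨e, he⟩ := quot_bound' i hi N (φ.comp (Polynomial.X + Polynomial.C (m : ℚ)))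
  obtain ⟨T, t, h1, h2, U, hU, hb⟩ := isBounded_quot' i hi N m e
  refine ⟨T, t, h1, h2, U, hU, fun F ⟨hF, hreg, hφ⟩ => hb F ⟨hF, ?_⟩⟩
  have hD : DataReg (xData k i F) m := hreg
  let F' := Pic13.twistOn k i F m
  have hF' : Coh.IsCoh F' := xIsCoh_twist hF m
  haveI := EulerIneqLib.finite_HH (k := k) (X := X) hF' 0
  have hN : Module.finrank k (Coh.HH X F' 0) = N := by
    have h := hφ m
    rw [eulerCharLE_eq i hi hF, CurveLib.euler_eq_sum (K := k) (Pic13.twistOn k i F m) 1 fun p hp =>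
      hD.vanish_ge hp (by omega)] at h
    simp only [Finset.sum_range_one, pow_zero, one_mul, Int.cast_natCast] at h
    show _ = ⌊φ.eval (m : ℚ)⌋.toNat
    rw [← h, Int.floor_natCast, Int.toNat_natCast]
  obtain ⟨q₀, hq₀⟩ := exists_epi_of_gg k (W := F') (hD.globallyGenerated (spanAt_eventually k i hF))
  obtain ⟨q, hq⟩ : ∃ q : FlatMod.freeMod X N ⟶ F', Epi q := by rw [← hN]; exact ⟨q₀, hq₀⟩
  obtain ⟨-, -, hgg⟩ := he F' q hF' hq (fun j => by
    rw [Polynomial.eval_comp, Polynomial.eval_add, Polynomial.eval_X, Polynomial.eval_C,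
      show (j : ℚ) + (m : ℚ) = ((m + j : ℤ) : ℚ) by push_cast; ring, ← hφ, eulerCharLE_eq i hi hF]
    exact congrArg Int.cast (CurveLib.euler_iso (K := k) (xMulIso k i F (show m + (j : ℤ) = m + j from rfl))))
    e le_rfl
  exact ⟨q, hq, hgg⟩

end Groth.Agent.CurveBddLib
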