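import Groth.Agent.CurveBddLib.Vanish
import Groth.Agent.CurveBddLib.QuotAny

/-!
# Boundedness on curves
-/

set_option autoImplicit false
set_option backward.isDefEq.respectTransparency false
set_option linter.style.haveILetI false
set_option maxHeartbeats 1200000

universe u

open CategoryTheory CategoryTheory.Limits AlgebraicGeometry Polynomial StabCat

noncomputable section

namespace Groth.Agent.CurveBddLib

open ShStabLib CMRegLib

variable (k : Type u) [Field k] {X : Scheme.{u}} [X.Over (Spec (CommRingCat.of k))]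
  [IsProper (X ↘ Spec (CommRingCat.of k))]

/-- A family with fixed Hilbert polynomial whose twists have no `H¹` uniformly is bounded. -/
theorem isBounded_of_uniform (hdim : topologicalKrullDim X = 1) {L : X.Modules} (hL : CohB1.IsAmple L) (P : ℚ[X])
    (j₀ : ℕ) :
    Pic13.IsBounded k X fun F => Coh.IsCoh F ∧ ShStab.IsHilbPoly k X L F P ∧
      ∀ j, j₀ ≤ j → Subsingleton (Coh.HH X (CohB1.tensorMod F (CohB1.tensorPow L j)) 1) := by
  obtain ⟨a, N, i, ha, hi, hcomp, ⟨eL⟩⟩ := NumBdd.exists_embedding_pow k hL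
  haveI := hi
  obtain ⟨T, t, h1, h2, U, hU, hb⟩ := isBounded_regular' i hcomp ((j₀ : ℤ) + 1)
    (P.comp (Polynomial.C (a : ℚ) * Polynomial.X))
  refine ⟨T, t, h1, h2, U, hU, fun F ⟨hF, hP, hv⟩ => hb F ⟨hF, fun q hq => ?_, fun d => ?_⟩⟩
  · rcases eq_or_lt_of_le hq with rfl | hq'
    · rw [show (j₀ : ℤ) + 1 - ((1 : ℕ) : ℤ) = (j₀ : ℤ) by simp]
      exact @ProjCoh.subsingleton_of_iso _ _ _ (AmpleLib.tIso (Iso.refl F) (powIsoOf i eL j₀)).symm 1
        (hv (a * j₀) (Nat.le_mul_of_pos_left _ ha))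
    · exact vanish_ge_two k hdim _ hq'
  · rw [CMRegLib.eulerCharLE_eq i hcomp hF]
    refine euler_twistOn_int i hcomp hF _ (fun q => ?_) d
    rw [eval_comp, eval_mul, eval_C, eval_X, ← Nat.cast_mul, ← hP (a * q)]
    exact congrArg Int.cast (CurveLib.euler_iso (K := k) (AmpleLib.tIso (Iso.refl F) (powIsoOf i eL q)))

/-- The slope bound of a semistable module. -/
theorem slopeBdd_of_semistable (hdim : topologicalKrullDim X = 1) {L : X.Modules} (hL : CohB1.IsAmple L)
    {E : X.Modules} (hE : ShStab.IsSemistable k X L E 1) :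
    SlopeBdd (k := k) L E ((Curv2.euler k X E : ℚ) / (DecSh.mult k X L E : ℚ)) := by
  intro G ι hι hG hG0
  haveI := hι
  obtain ⟨P, hP, hα, -⟩ := DecShCurveLib.mult_eq_alpha k hdim hL hE.1
  obtain ⟨Q, hQ, hβ, -⟩ := DecShCurveLib.mult_eq_alpha k hdim hL hG
  have hαpos : (0 : ℚ) < (DecSh.mult k X L E : ℚ) := hα ▸ alpha_pos_of_isPure k hL hE.1 hE.2.1 hE.2.2.1 hP
  obtain ⟨N, hN⟩ := ss_le k hL hE ι hG hG0 hQ hP
  have h := hN N le_rfl
  rw [eval_smul, eval_smul, smul_eq_mul, smul_eq_mul, ← hP N, ← hQ N] at h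
  rw [show (Curv2.euler k X (ShStab.twist X L E N) : ℚ) = (DecSh.mult k X L E : ℚ) * N + Curv2.euler k X E from
      euler_twistL hdim hL hE.1 N,
    show (Curv2.euler k X (ShStab.twist X L G N) : ℚ) = (DecSh.mult k X L G : ℚ) * N + Curv2.euler k X G from
      euler_twistL hdim hL hG N, ← hα, ← hβ] at h
  rw [div_mul_eq_mul_div, le_div_iff₀ hαpos]
  nlinarith

end Groth.Agent.CurveBddLib
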