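import Groth.Agent.CurveBddLib.QuotCond
import Groth.Agent.CurveBddLib.QuotAny
import Groth.Agent.S19313
import Groth.Agent.S19315

/-!
# Sectional semistability of tensor fields on curves
-/

set_option autoImplicit false
set_option backward.isDefEq.respectTransparency false
set_option linter.style.haveILetI false
set_option linter.unusedSectionVars false
set_option maxHeartbeats 1600000

universe u

open CategoryTheory CategoryTheory.Limits AlgebraicGeometry StabCat

noncomputable section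

namespace Groth.Agent.CurveBddLib

open ShStabLib CMRegLib

/-- Regular modules with finitely many Hilbert polynomials form a bounded family. -/
theorem isBounded_regular_finset {k : Type u} [Field k] {n : ℕ} {X : Scheme.{u}} (i : X ⟶ CohB1.ProjSpace n k)
    [IsClosedImmersion i] [X.Over (Spec (CommRingCat.of k))]
    (hi : i ≫ CohB1.ProjSpace.toSpec n k = X ↘ Spec (CommRingCat.of k)) (m : ℤ) (Φ : Finset (Polynomial ℚ)) :
    Pic13.IsBounded k X (fun F : X.Modules => Coh.IsCoh F ∧ Pic13.IsMRegular k i F m ∧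
      ∃ φ ∈ Φ, ∀ d : ℤ, (Curv2.euler k X (Pic13.twistOn k i F d) : ℚ) = φ.eval (d : ℚ)) := by
  classical
  haveI : IsProper (X ↘ Spec (CommRingCat.of k)) := by
    haveI : IsProper (CohB1.ProjSpace.toSpec n k) := CompleteCurve.isProper_toSpec n k
    rw [← hi]; infer_instance
  haveI := EulerIneqLib.isNoetherian_proper (X := X) k
  let N : ℕ := Φ.sup fun φ => ⌊φ.eval (m : ℚ)⌋.toNat
  choose e he using fun φ : Polynomial ℚ => quot_bound' i hi N (φ.comp (Polynomial.X + Polynomial.C (m : ℚ)))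
  let e₀ : ℤ := ((Φ.sup fun φ => (e φ).toNat : ℕ) : ℤ)
  obtain ⟨T, t, h1, h2, U, hU, hb⟩ := isBounded_quot' i hi N m e₀
  refine ⟨T, t, h1, h2, U, hU, fun F ⟨hF, hreg, φ, hφΦ, hφ⟩ => hb F ⟨hF, ?_⟩⟩
  have hD : DataReg (xData k i F) m := hreg
  let F' := Pic13.twistOn k i F m
  have hF' : Coh.IsCoh F' := xIsCoh_twist hF m
  haveI := EulerIneqLib.finite_HH (k := k) (X := X) hF' 0
  have hN : Module.finrank k (Coh.HH X F' 0) ≤ N := by
    have h := hφ m
    rw [CurveLib.euler_eq_sum (K := k) (Pic13.twistOn k i F m) 1 fun p hp => hD.vanish_ge hp (by omega)] at h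
    simp only [Finset.sum_range_one, pow_zero, one_mul, Int.cast_natCast] at h
    have h' : Module.finrank k (Coh.HH X F' 0) = ⌊φ.eval (m : ℚ)⌋.toNat := by
      rw [← h, Int.floor_natCast, Int.toNat_natCast]
    exact h'.trans_le (Finset.le_sup (f := fun φ : Polynomial ℚ => ⌊φ.eval (m : ℚ)⌋.toNat) hφΦ)
  obtain ⟨q₀, hq₀⟩ := exists_epi_of_gg k (W := F') (hD.globallyGenerated (spanAt_eventually k i hF))
  haveI := hq₀
  let pad : FlatMod.freeMod X N ⟶ FlatMod.freeMod X (Module.finrank k (Coh.HH X F' 0)) :=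
    Sigma.desc fun a => if h : (a : ℕ) < _ then Sigma.ι (fun _ : Fin _ => Coh.structureModule X) ⟨a, h⟩ else 0
  haveI : IsSplitEpi pad := ⟨⟨⟨Sigma.desc fun a =>
      Sigma.ι (fun _ : Fin N => Coh.structureModule X) (Fin.castLE hN a),
    Sigma.hom_ext _ _ fun a => by simp [pad]⟩⟩⟩
  have hq : Epi (pad ≫ q₀) := epi_comp _ _
  have hle : e φ ≤ e₀ :=
    le_trans (Int.self_le_toNat _) (Int.ofNat_le.2 (Finset.le_sup (f := fun φ : Polynomial ℚ => (e φ).toNat) hφΦ))
  obtain ⟨-, -, hgg⟩ := he φ F' (pad ≫ q₀) hF' hq (fun j => by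
    rw [Polynomial.eval_comp, Polynomial.eval_add, Polynomial.eval_X, Polynomial.eval_C,
      show (j : ℚ) + (m : ℚ) = ((m + j : ℤ) : ℚ) by push_cast; ring, ← hφ]
    exact congrArg Int.cast (CurveLib.euler_iso (K := k) (xMulIso k i F (show m + (j : ℤ) = m + j from rfl))))
    e₀ hle
  exact ⟨_, hq, hgg⟩

variable (k : Type u) [Field k] {X : Scheme.{u}} [X.Over (Spec (CommRingCat.of k))]
  [IsProper (X ↘ Spec (CommRingCat.of k))] (hdim : topologicalKrullDim X = 1) {L : X.Modules}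
  (hL : CohB1.IsAmple L)

include hdim hL

/-- Slope-bounded modules with finitely many invariants form a bounded family. -/
theorem isBounded_finset (S : Finset (ℤ × ℤ)) (c : ℚ) :
    Pic13.IsBounded k X fun F => Coh.IsCoh F ∧ ShStab.IsPure X F 1 ∧
      (DecSh.mult k X L F, Curv2.euler k X F) ∈ S ∧ SlopeBdd (k := k) L F c := by
  classical
  obtain ⟨a, N, i, ha, hi, hcomp, ⟨eL⟩⟩ := NumBdd.exists_embedding_pow k hL
  haveI := hi
  choose j₀ hj using fun p : ℤ × ℤ => exists_uniform_vanish (k := k) hdim hL p.1 p.2 c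
  let J := S.sup j₀
  obtain ⟨T, t, h1, h2, U, hU, hb⟩ := isBounded_regular_finset i hcomp ((J : ℤ) + 1)
    (S.image fun p => Polynomial.C ((p.1 : ℚ) * (a : ℚ)) * Polynomial.X + Polynomial.C (p.2 : ℚ))
  refine ⟨T, t, h1, h2, U, hU, fun F ⟨hF, hp, hS, hc⟩ => hb F ⟨hF, fun q hq => ?_, ?_⟩⟩
  · rcases eq_or_lt_of_le hq with rfl | hq'
    · rw [show (J : ℤ) + 1 - ((1 : ℕ) : ℤ) = (J : ℤ) by simp]
      exact @ProjCoh.subsingleton_of_iso _ _ _ (AmpleLib.tIso (Iso.refl F) (powIsoOf i eL J)).symm 1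
        (hj _ F hF hp rfl rfl hc (a * J) ((Finset.le_sup hS).trans (Nat.le_mul_of_pos_left _ ha)))
    · exact vanish_ge_two k hdim _ hq'
  · refine ⟨_, Finset.mem_image.2 ⟨_, hS, rfl⟩, fun d => euler_twistOn_int i hcomp hF _ (fun q => ?_) d⟩
    rw [show Curv2.euler k X (Pic13.twistOn k i F (q : ℤ)) = Curv2.euler k X (CohB1.tensorMod F (CohB1.tensorPow L (a * q))) from
      CurveLib.euler_iso (K := k) (AmpleLib.tIso (Iso.refl F) (powIsoOf i eL q)), euler_twistL hdim hL hF]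
    simp only [Polynomial.eval_add, Polynomial.eval_mul, Polynomial.eval_C, Polynomial.eval_X]
    push_cast
    ring

/-- Pieces are acyclic or have a large deficit. -/
theorem exists_piece_bound (αE e : ℤ) (c C : ℚ) : ∃ N : ℕ, ∀ E : X.Modules, Coh.IsCoh E → ShStab.IsPure X E 1 →
    DecSh.mult k X L E = αE → Curv2.euler k X E = e → SlopeBdd (k := k) L E c → ∀ m, N ≤ m →
      ∀ (G : X.Modules) (j : G ⟶ E), Mono j → Coh.IsCoh G → ¬ IsZero G →
        Subsingleton (Coh.HH X (ShStab.twist X L G m) 1) ∨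
          (αE : ℚ) * (Module.finrank k (Coh.HH X (ShStab.twist X L G m) 0) : ℚ) -
            (DecSh.mult k X L G : ℚ) * ((αE : ℚ) * m + e) ≤ -C := by
  obtain ⟨g, hg, hdich⟩ := exists_dichotomy k hdim hL
  obtain ⟨T, hT⟩ := hdich c
  refine ⟨⌈(g : ℚ) * (1 + |(αE : ℚ)| * T + |(e : ℚ)| + |C|)⌉.toNat, fun E hE hp hα he hc m hm G j hj hG hG0 => ?_⟩
  haveI := hj
  rcases hT G hG (isPure_of_mono hp j) (fun H ι hι hH hH0 => hc H (ι ≫ j) (mono_comp _ _) hH hH0) m with h | h
  · exact Or.inl h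
  refine Or.inr ?_
  obtain ⟨hm1, hm2⟩ := DecShCurveLib.mult_bounds k hdim hL hE hp j hG hG0
  rw [hα] at hm2
  have h1 : (1 : ℚ) ≤ (DecSh.mult k X L G : ℚ) := by exact_mod_cast hm1
  have h2 : (DecSh.mult k X L G : ℚ) ≤ (αE : ℚ) := by exact_mod_cast hm2
  have hg' : (0 : ℚ) < (g : ℚ) := by exact_mod_cast hg
  have hbig : 1 + (αE : ℚ) * T + |(e : ℚ)| + |C| ≤ (m : ℚ) / g := by
    rw [le_div_iff₀ hg', mul_comm]
    have h3 := Int.le_ceil ((g : ℚ) * (1 + |(αE : ℚ)| * T + |(e : ℚ)| + |C|))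
    have h4 : (⌈(g : ℚ) * (1 + |(αE : ℚ)| * T + |(e : ℚ)| + |C|)⌉ : ℚ) ≤
        ((⌈(g : ℚ) * (1 + |(αE : ℚ)| * T + |(e : ℚ)| + |C|)⌉.toNat : ℕ) : ℚ) := by
      exact_mod_cast Int.self_le_toNat _
    have h5 : ((⌈(g : ℚ) * (1 + |(αE : ℚ)| * T + |(e : ℚ)| + |C|)⌉.toNat : ℕ) : ℚ) ≤ m := by exact_mod_cast hm
    rw [abs_of_nonneg (le_trans (le_trans zero_le_one h1) h2)] at h3 h4 h5
    linarith
  have h6 := mul_le_mul_of_nonneg_left h (le_trans (le_trans zero_le_one h1) h2)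
  have h7 : (DecSh.mult k X L G : ℚ) * ((αE : ℚ) * T - e) ≤ (αE : ℚ) * ((αE : ℚ) * T + |(e : ℚ)|) :=
    (mul_le_mul_of_nonneg_left (by linarith [neg_abs_le (e : ℚ)]) (le_trans zero_le_one h1)).trans
      (mul_le_mul_of_nonneg_right h2 (add_nonneg (mul_nonneg (le_trans (le_trans zero_le_one h1) h2)
        (Nat.cast_nonneg _)) (abs_nonneg _)))
  have h8 := mul_le_mul_of_nonneg_left hbig (le_trans (le_trans zero_le_one h1) h2)
  nlinarith [mul_le_mul_of_nonneg_right (le_trans h1 h2) (abs_nonneg C), neg_abs_le C, le_abs_self C]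

omit hL in
include k in
/-- `H¹` of the twist of a quotient. -/
theorem vanish_quot {E Q : X.Modules} (π : E ⟶ Q) [Epi π] (m : ℕ)
    (h : Subsingleton (Coh.HH X (ShStab.twist X L E m) 1)) : Subsingleton (Coh.HH X (ShStab.twist X L Q m) 1) := by
  let T := CurveLib.tensR (CohB1.tensorPow L m)
  have hS : (ShortComplex.mk (kernel.ι (T.map π)) (T.map π) (kernel.condition _)).ShortExact :=
    ShortComplex.ShortExact.mk' (ShortComplex.exact_of_f_is_kernel _ (kernelIsKernel _)) inferInstance inferInstance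
  haveI : Subsingleton (Coh.HH X (T.obj E) 1) := h
  haveI := vanish_ge_two k hdim (kernel (T.map π)) (le_refl 2)
  have hsurj : Function.Surjective (CurveLib.hMap (k := k) (T.map π) 1) := by
    refine LinearMap.range_eq_top.1 ((CurveLib.range_hMap_g hS 1).trans ?_)
    rw [LinearMap.ker_eq_top]
    exact LinearMap.ext fun _ => Subsingleton.elim _ _
  exact hsurj.subsingleton

/-- The slope bound of a semistable tensor field. -/
theorem slopeBdd_of_tf [IsAlgClosed k] [CharZero k] [AlgebraicGeometry.IsReduced X]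
    (hpure : ∀ x : X, ¬ IsOpen ({x} : Set X)) {F : X.Modules} (hF : Coh.IsCoh F) (htf : TorSh.IsTorsionFree F)
    {D : X.Modules} {a b : ℕ} (T : DecSh.TF F a b D) {δ : ℚ} (hδ : 0 < δ) (hT : T.IsSemistable k L δ)
    {αE e : ℤ} (hα : DecSh.mult k X L F = αE) (he : Curv2.euler k X F = e) :
    SlopeBdd (k := k) L F ((e : ℚ) / (αE : ℚ) + δ * (a : ℚ)) := by
  haveI := EulerIneqLib.isNoetherian_proper (X := X) k
  have hp := DecShCurveLib.isPure_of_torsionFree hdim hpure hF htf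
  intro G ι hι hG hG0
  haveI := hι
  obtain ⟨hm1, hm2⟩ := DecShCurveLib.mult_bounds k hdim hL hF hp ι hG hG0
  rw [hα] at hm2
  have hm1' : (1 : ℚ) ≤ (DecSh.mult k X L G : ℚ) := by exact_mod_cast hm1
  have hαpos : (0 : ℚ) < (αE : ℚ) := by exact_mod_cast lt_of_lt_of_le one_pos (hm1.trans hm2)
  have hδa : 0 ≤ δ * (a : ℚ) := mul_nonneg hδ.le (Nat.cast_nonneg a)
  have key : (αE : ℚ) * (Curv2.euler k X G : ℚ) - (DecSh.mult k X L G : ℚ) * (e : ℚ) ≤
      δ * (a : ℚ) * ((αE : ℚ) - (DecSh.mult k X L G : ℚ)) := by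
    by_cases hiso : IsIso ι
    · haveI := hiso
      rw [CurveLib.euler_iso (K := k) (asIso ι), DecShCurveLib.mult_iso k (asIso ι), hα, he]
      simp
    · have h := Groth.Agent.S19313.result k X hdim hpure L hL F hF htf T δ hδ hT G ι hG hG0 hiso
      rwa [hα, he] at h
  rw [div_add' _ _ _ hαpos.ne', div_mul_eq_mul_div, le_div_iff₀ hαpos]
  nlinarith [mul_le_mul_of_nonneg_left hm1' (mul_nonneg hδa hαpos.le), mul_nonneg hδa (le_trans zero_le_one hm1')]

/-- The quotient sectional condition on single-step filtrations. -/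
theorem quot_single {E D : X.Modules} {a b : ℕ} (T : DecSh.TF E a b D) {δ : ℚ} (hδ : 0 ≤ δ) {αE e : ℤ}
    (hE : Coh.IsCoh E) (hp : ShStab.IsPure X E 1) (hα : DecSh.mult k X L E = αE) (he : Curv2.euler k X E = e) {m : ℕ}
    (hT : ∀ 𝓕 : DecSh.WFilt E, (∀ i, Coh.IsCoh ((𝓕.piece i : Subobject E) : X.Modules)) →
      (∑ i, 𝓕.wt i * ((DecSh.mult k X L (cokernel (𝓕.piece i).arrow) : ℚ) *
          (Curv2.euler k X (ShStab.twist X L E m) : ℚ) -
        (αE : ℚ) * (Module.finrank k (Coh.HH X (ShStab.twist X L (cokernel (𝓕.piece i).arrow) m) 0) : ℚ))) +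
        δ * T.mu k L 𝓕 ≤ 0)
    (F : X.Modules) (ι : F ⟶ E) (hι' : Mono ι) (hF : Coh.IsCoh F) (h0 : ¬ IsZero F) (hι : ¬ IsIso ι) :
    (DecSh.mult k X L (cokernel ι) : ℚ) * ((αE : ℚ) * m + e) -
      (αE : ℚ) * (Module.finrank k (Coh.HH X (ShStab.twist X L (cokernel ι) m) 0) : ℚ) ≤
        δ * (a : ℚ) * (DecSh.mult k X L (cokernel ι) : ℚ) := by
  haveI := hι'
  haveI := EulerIneqLib.isNoetherian_proper (X := X) k
  have hne : Subobject.mk ι ≠ ⊤ := fun e => hι ((Subobject.isIso_iff_mk_eq_top ι).2 e)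
  have hz : ¬ IsZero ((Subobject.mk ι : Subobject E) : X.Modules) := fun h =>
    h0 (h.of_iso (Subobject.underlyingIso ι).symm)
  have h := hT (DecSh.WFilt.single (Subobject.mk ι) hne hz) fun _ =>
    isCoh_of_iso (Subobject.underlyingIso ι).symm hF
  obtain ⟨hm1, hm2⟩ := DecShCurveLib.mult_bounds k hdim hL hE hp ι hF h0
  have hmu := DecShCurveLib.gam_single_ge (DecSh.mult k X L E) (fun P => DecSh.mult k X L (P : X.Modules)) hne hz
    (by omega) T.nv
  have eq : cokernel (Subobject.mk ι).arrow ≅ cokernel ι :=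
    cokernel.mapIso _ _ (Subobject.underlyingIso ι) (Iso.refl E) (by simp)
  have hsum : ∀ f : Fin (DecSh.WFilt.single (Subobject.mk ι) hne hz).t → ℚ, ∑ i, f i = f ⟨0, Nat.one_pos⟩ := fun f =>
    Fin.sum_univ_one f
  rw [hsum, show (DecSh.WFilt.single (Subobject.mk ι) hne hz).wt ⟨0, Nat.one_pos⟩ = 1 from rfl, one_mul] at h
  change (DecSh.mult k X L (cokernel (Subobject.mk ι).arrow) : ℚ) * (Curv2.euler k X (ShStab.twist X L E m) : ℚ) -
    (αE : ℚ) * (Module.finrank k (Coh.HH X (ShStab.twist X L (cokernel (Subobject.mk ι).arrow) m) 0) : ℚ) +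
      δ * T.mu k L (DecSh.WFilt.single (Subobject.mk ι) hne hz) ≤ 0 at h
  rw [DecShCurveLib.mult_iso k eq,
    show (Curv2.euler k X (ShStab.twist X L E m) : ℚ) = _ from euler_twistL hdim hL hE m, hα, he,
    show Module.finrank k (Coh.HH X (ShStab.twist X L (cokernel (Subobject.mk ι).arrow) m) 0) =
      Module.finrank k (Coh.HH X (ShStab.twist X L (cokernel ι) m) 0) from
      CMRegLib.hh_finrank_iso (k := k) (AmpleLib.tIso eq (Iso.refl _)) 0] at h
  have hmF : DecSh.mult k X L ((Subobject.mk ι : Subobject E) : X.Modules) = DecSh.mult k X L F :=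
    DecShCurveLib.mult_iso k (Subobject.underlyingIso ι)
  simp only [hmF] at hmu
  obtain ⟨-, hmQ, -⟩ := coker_facts k hdim hL ι hF hE
  rw [hα] at hmQ
  have hmQ' : (αE : ℚ) = (DecSh.mult k X L F : ℚ) + (DecSh.mult k X L (cokernel ι) : ℚ) := by exact_mod_cast hmQ
  have h9 := mul_le_mul_of_nonneg_left hmu hδ
  rw [hα] at h9
  have : T.mu k L (DecSh.WFilt.single (Subobject.mk ι) hne hz) =
      (DecSh.WFilt.single (Subobject.mk ι) hne hz).mu αE (fun P => DecSh.mult k X L (P : X.Modules)) T.nv := by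
    rw [DecSh.TF.mu, hα]
  rw [this] at h
  rw [hmQ'] at h h9 ⊢
  linarith

end Groth.Agent.CurveBddLib
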