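import Groth.Agent.CurveBddLib.Vanish
import Groth.Agent.DegDevLib.Deg

/-!
# Multiplicity of locally free modules, and generation from vanishing
-/

set_option autoImplicit false
set_option backward.isDefEq.respectTransparency false
set_option linter.style.haveILetI false
set_option maxHeartbeats 1200000

universe u

open CategoryTheory CategoryTheory.Limits AlgebraicGeometry

noncomputable section

namespace Groth.Agent.CurveBddLib

open CMRegLib

variable (k : Type u) [Field k] {X : Scheme.{u}} [X.Over (Spec (CommRingCat.of k))]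
  [IsProper (X ↘ Spec (CommRingCat.of k))] (hdim : topologicalKrullDim X = 1)

include hdim in
/-- `mult (E) = r · mult (O)`. -/
theorem mult_locFree {L E : X.Modules} (hL : PicF.IsInvertible L) {r : ℕ} (hE : FlatMod.IsFinLocFreeOfRank r E) :
    DecSh.mult k X L E = (r : ℤ) * DecSh.mult k X L (Coh.structureModule X) := by
  haveI := EulerIneqLib.isNoetherian_proper (X := X) k
  have h1 : FlatMod.IsFinLocFreeOfRank 1 L := CurveLib.isFinLocFreeOfRank_one hL
  have hm : ∀ M : X.Modules, DecSh.mult k X L M = DegDevLib.twEuler k 1 L M := fun M => by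
    rw [DecSh.mult, DegDevLib.twEuler, Nat.cast_one, one_mul]
    rfl
  have hle : ∀ M : X.Modules, topologicalKrullDim (CohB1.support M) ≤ 1 := fun M =>
    Topology.IsInducing.subtypeVal.topologicalKrullDim_le.trans (le_of_eq hdim)
  rw [hm, hm, DegDevLib.twEuler_decomp k h1 (DegDevLib.isCoh_of_rank hE) (hle _),
    DegDevLib.twEuler_decomp k h1 (DevLib.isCoh_structureModule _) (hle _), ← smul_eq_mul, smul_finsum]
  refine finsum_congr fun ξ => ?_
  rw [smul_eq_mul, mul_ite, mul_zero]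
  refine ite_congr rfl (fun _ => ?_) fun _ => rfl
  obtain ⟨e⟩ := DegDevLib.nonempty_stalk_tmod hE (Coh.structureModule X) ξ
  let eu : (DCohLib.tmod (Coh.structureModule X) E).presheaf.stalk ξ ≃ₗ[X.presheaf.stalk ξ] E.presheaf.stalk ξ :=
    LinearEquiv.ofBijective _ ((PullbackMod.isIso_iff_stalk (CurveLib.tmodUnit E).hom).1 inferInstance ξ)
  rw [(eu.symm ≪≫ₗ e).length_eq, Module.length_pi_of_fintype, Finset.sum_const, Finset.card_fin, nsmul_eq_mul,
    ENat.toNat_mul, ENat.toNat_coe]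
  push_cast
  ring

include k hdim in
/-- Vanishing of `H¹` from `j₀` on gives generation beyond `a (j₀ + 1)`. -/
theorem exists_gg {L : X.Modules} (hL : CohB1.IsAmple L) (j₀ : ℕ) :
    ∃ n₀ : ℕ, ∀ F : X.Modules, Coh.IsCoh F →
      (∀ j, j₀ ≤ j → Subsingleton (Coh.HH X (CohB1.tensorMod F (CohB1.tensorPow L j)) 1)) →
      ∀ j, n₀ ≤ j → Curv2.IsGloballyGenerated (CohB1.tensorMod F (CohB1.tensorPow L j)) := by
  haveI := EulerIneqLib.isNoetherian_proper (X := X) k
  obtain ⟨a, N, i, ha, hi, hcomp, ⟨eL⟩⟩ := NumBdd.exists_embedding_pow k hL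
  haveI := hi
  refine ⟨a * (j₀ + 1), fun F hF hv j hj => ?_⟩
  obtain ⟨r, q, hr, rfl⟩ : ∃ r q, r < a ∧ j = r + a * q :=
    ⟨j % a, j / a, Nat.mod_lt _ ha, (Nat.mod_add_div j a).symm⟩
  have hq : j₀ + 1 ≤ q := by
    by_contra h
    have h9 : a * (q + 1) ≤ a * (j₀ + 1) := Nat.mul_le_mul le_rfl (by omega)
    rw [Nat.mul_succ] at h9
    omega
  have hFr : Coh.IsCoh (CohB1.tensorMod F (CohB1.tensorPow L r)) := HilbLib.isCoh_twist hL.1 hF r
  have hD : DataReg (xData k i (CohB1.tensorMod F (CohB1.tensorPow L r))) (q : ℤ) := fun p hp => by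
    rcases eq_or_lt_of_le hp with rfl | hp'
    · show Subsingleton (Coh.HH X (Pic13.twistOn k i _ ((q : ℤ) - ((1 : ℕ) : ℤ))) 1)
      rw [show (q : ℤ) - ((1 : ℕ) : ℤ) = ((q - 1 : ℕ) : ℤ) by push_cast [Nat.cast_sub (show 1 ≤ q by omega)]; ring]
      refine @ProjCoh.subsingleton_of_iso _ _ _ (residueTwistIso i eL F r (q - 1)).symm 1 (hv _ ?_)
      calc j₀ ≤ q - 1 := by omega
        _ ≤ a * (q - 1) := Nat.le_mul_of_pos_left _ ha
        _ ≤ r + a * (q - 1) := Nat.le_add_left _ _
    · exact vanish_ge_two k hdim _ hp'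
  exact AmpleLib.isGloballyGenerated_of_iso (residueTwistIso i eL F r q)
    (hD.globallyGenerated (spanAt_eventually k i hFr))

end Groth.Agent.CurveBddLib
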