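import Groth.Agent.CurveBddLib.Sectional
import Groth.Agent.ShStabLib.Lattice

/-!
# Slope bounds from sectional conditions on quotients, and the numerical lemma
-/

set_option autoImplicit false
set_option backward.isDefEq.respectTransparency false
set_option linter.style.haveILetI false
set_option linter.unusedSectionVars false
set_option maxHeartbeats 1600000

universe v u

open CategoryTheory CategoryTheory.Limits AlgebraicGeometry StabCat

noncomputable section

namespace Groth.Agent.CurveBddLib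

open ShStabLib CMRegLib DevLib

section numeric

variable {C : Type u} [Category.{v} C] {O : C}

/-- Pieces with a large deficit only improve the semistability inequality. -/
theorem sectional_le (𝓕 : DecSh.WFilt O) (αE : ℤ) (α : Subobject O → ℤ) {a : ℕ} (N : DecSh.NV O a) {δ : ℚ}
    (hδ : 0 ≤ δ) (hα : ∀ i, 1 ≤ α (𝓕.piece i) ∧ α (𝓕.piece i) ≤ αE) (ok : Subobject O → Prop)
    (hok : ∀ i, ok (𝓕.piece i)) (dE : ℚ) (d : Subobject O → ℚ) (hSS : DecSh.IsDeltaSS ok αE α dE d N δ)
    (s : Fin 𝓕.t → ℚ) (Good : Fin 𝓕.t → Prop) [DecidablePred Good]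
    (hg : ∀ i, Good i → s i = (αE : ℚ) * d (𝓕.piece i) - (α (𝓕.piece i) : ℚ) * dE)
    (hb : ∀ i, ¬ Good i → s i ≤ -(δ * (a : ℚ) * (αE : ℚ) + 1)) :
    (∑ i, 𝓕.wt i * s i) + δ * 𝓕.mu αE α N ≤ -(∑ i ∈ Finset.univ.filter fun i => ¬ Good i, 𝓕.wt i) := by
  classical
  let G := Finset.univ.filter Good
  let B := Finset.univ.filter fun i => ¬ Good i
  have hGB : ∀ f : Fin 𝓕.t → ℚ, ∑ i, f i = ∑ i ∈ G, f i + ∑ i ∈ B, f i := fun f =>
    (Finset.sum_filter_add_sum_filter_not _ _ _).symm
  have key : ∑ i ∈ G, 𝓕.wt i * s i + δ * 𝓕.mu αE α N ≤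
      (∑ i ∈ B, 𝓕.wt i) * (δ * (a : ℚ) * ((αE : ℚ) - 1)) := by
    rcases G.eq_empty_or_nonempty with hG | hG
    · have hB : ∑ i, 𝓕.wt i = ∑ i ∈ B, 𝓕.wt i := by rw [hGB, hG, Finset.sum_empty, zero_add]
      rw [hG, Finset.sum_empty, zero_add]
      have h := mul_le_mul_of_nonneg_left ((le_abs_self _).trans (DecShCurveLib.abs_mu_le 𝓕 αE α hα N)) hδ
      rw [hB] at h
      linarith
    · let em := G.orderEmbOfFin rfl
      let 𝓕₁ : DecSh.WFilt O :=
        { t := G.card
          t_pos := Finset.card_pos.2 hG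
          piece := fun j => 𝓕.piece (em j)
          wt := fun j => 𝓕.wt (em j)
          piece_strictMono := fun i j h => 𝓕.piece_strictMono (em.strictMono h)
          piece_ne_top := fun j => 𝓕.piece_ne_top _
          piece_nonzero := fun j => 𝓕.piece_nonzero _
          wt_pos := fun j => 𝓕.wt_pos _ }
      have h1 := hSS 𝓕₁ fun j => hok _
      have hsum : ∀ f : Fin 𝓕.t → ℚ, ∑ j, f (em j) = ∑ i ∈ G, f i := fun f => by
        have e : Finset.univ.map em.toEmbedding = G := Finset.map_orderEmbOfFin_univ G rfl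
        conv_rhs => rw [← e]
        rw [Finset.sum_map]
        rfl
      have h2 : 𝓕₁.msum αE α dE d = ∑ i ∈ G, 𝓕.wt i * s i := by
        rw [← hsum]
        refine Finset.sum_congr rfl fun j _ => ?_
        rw [hg _ (Finset.mem_filter.1 (G.orderEmbOfFin_mem rfl j)).2]
      have hmu := mul_le_mul_of_nonneg_left
        (DecShCurveLib.mu_le_sub 𝓕 αE α hα N 𝓕₁ (fun j => em j) (fun _ => rfl) (fun _ => rfl)) hδ
      have h3 : (∑ i, 𝓕.wt i) - ∑ j, 𝓕₁.wt j = ∑ i ∈ B, 𝓕.wt i := by
        rw [hGB, show ∑ j, 𝓕₁.wt j = ∑ i ∈ G, 𝓕.wt i from hsum 𝓕.wt]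
        ring
      rw [h3] at hmu
      rw [h2] at h1
      linarith
  have hB : ∑ i ∈ B, 𝓕.wt i * s i ≤ (∑ i ∈ B, 𝓕.wt i) * (-(δ * (a : ℚ) * (αE : ℚ) + 1)) := by
    rw [Finset.sum_mul]
    exact Finset.sum_le_sum fun i hi =>
      mul_le_mul_of_nonneg_left (hb i (Finset.mem_filter.1 hi).2) (𝓕.wt_pos i).le
  have hwB : 0 ≤ ∑ i ∈ B, 𝓕.wt i := Finset.sum_nonneg fun i _ => (𝓕.wt_pos i).le
  rw [hGB]
  nlinarith [mul_nonneg hwB (mul_nonneg hδ (Nat.cast_nonneg (α := ℚ) a))]

end numeric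

theorem euler_isZero' (k : Type u) [Field k] {X : Scheme.{u}} [X.Over (Spec (CommRingCat.of k))]
    [IsProper (X ↘ Spec (CommRingCat.of k))] {N : X.Modules} (hN : IsZero N) : Curv2.euler k X N = 0 := by
  unfold Curv2.euler
  refine finsum_eq_zero_of_forall_eq_zero fun i => ?_
  haveI := CMRegLib.subsingleton_zero hN i
  rw [Module.finrank_zero_of_subsingleton]
  simp

variable (k : Type u) [Field k] {X : Scheme.{u}} [X.Over (Spec (CommRingCat.of k))]
  [IsProper (X ↘ Spec (CommRingCat.of k))] (hdim : topologicalKrullDim X = 1) {L : X.Modules}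
  (hL : CohB1.IsAmple L)

include hdim hL

omit hdim hL in
theorem mult_isZero {N : X.Modules} (hN : IsZero N) : DecSh.mult k X L N = 0 := by
  have h : IsZero (CohB1.tensorMod N L) := (CurveLib.tensR L).map_isZero hN
  rw [DecSh.mult, euler_isZero' k h, euler_isZero' k hN, sub_zero]

theorem euler_sub_le {F E : X.Modules} (ι : F ⟶ E) [Mono ι] (hE : Coh.IsCoh E) :
    Curv2.euler k X F ≤ (Module.finrank k (Coh.HH X E 0) : ℤ) := by
  have hS : (ShortComplex.mk ι (cokernel.π ι) (cokernel.condition ι)).ShortExact := DevLib.cokerSeq_shortExact ι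
  have h : Module.finrank k (Coh.HH X F 0) ≤ Module.finrank k (Coh.HH X E 0) :=
    CMRegLib.finrank_H0_left (k := k) (S := ShortComplex.mk ι (cokernel.π ι) (cokernel.condition ι)) hS hE
  rw [euler_two (k := k) hdim]
  omega

/-- The cokernel, additively. -/
theorem coker_facts {F E : X.Modules} (ι : F ⟶ E) [Mono ι] (hF : Coh.IsCoh F) (hE : Coh.IsCoh E) :
    Coh.IsCoh (cokernel ι) ∧ DecSh.mult k X L E = DecSh.mult k X L F + DecSh.mult k X L (cokernel ι) ∧
      Curv2.euler k X E = Curv2.euler k X F + Curv2.euler k X (cokernel ι) := by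
  haveI := EulerIneqLib.isNoetherian_proper (X := X) k
  have hQ := (QCohLib.isCoh_kernel_cokernel ι hF hE).2
  have hS : (ShortComplex.mk ι (cokernel.π ι) (cokernel.condition ι)).ShortExact := DevLib.cokerSeq_shortExact ι
  exact ⟨hQ, mult_additive k hdim hL (S := ShortComplex.mk ι (cokernel.π ι) (cokernel.condition ι)) hS hF hE hQ⟩

theorem euler_nonneg_of_mult_zero {M : X.Modules} (hM : Coh.IsCoh M) (hm : DecSh.mult k X L M = 0) :
    0 ≤ Curv2.euler k X M := by
  by_cases h0 : IsZero M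
  · rw [euler_isZero' k h0]
  · exact (euler_pos_of_mult_zero k hdim hL hM h0 hm).le

/-- A quotient of least slope. -/
theorem exists_min_quot {E : X.Modules} (hE : Coh.IsCoh E) (hα : 0 < DecSh.mult k X L E) :
    ∃ (F : X.Modules) (ι : F ⟶ E) (μ : ℚ), Mono ι ∧ Coh.IsCoh F ∧ 0 < DecSh.mult k X L (cokernel ι) ∧
      (Curv2.euler k X (cokernel ι) : ℚ) = μ * DecSh.mult k X L (cokernel ι) ∧
      μ * DecSh.mult k X L E ≤ Curv2.euler k X E ∧
      ShStab.IsPure X (cokernel ι) 1 ∧ SlopeBdd (k := k) L (cokernel ι) μ ∧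
      ∀ (G : X.Modules) (j : G ⟶ E), Mono j → Coh.IsCoh G → DecSh.mult k X L G < DecSh.mult k X L E →
        μ * ((DecSh.mult k X L E : ℚ) - DecSh.mult k X L G) ≤ (Curv2.euler k X E : ℚ) - Curv2.euler k X G := by
  classical
  haveI := EulerIneqLib.isNoetherian_proper (X := X) k
  obtain ⟨αE, hαE⟩ : ∃ x, DecSh.mult k X L E = x := ⟨_, rfl⟩
  obtain ⟨e, he⟩ : ∃ x, Curv2.euler k X E = x := ⟨_, rfl⟩
  rw [hαE] at hα
  let fc : ℤ := (αE.toNat.factorial : ℤ)
  have hfc : 0 < fc := by simp only [fc]; exact_mod_cast Nat.factorial_pos _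
  let P : ℤ → Prop := fun z => ∃ (F : X.Modules) (ι : F ⟶ E), Mono ι ∧ Coh.IsCoh F ∧
    DecSh.mult k X L F < αE ∧ fc * (e - Curv2.euler k X F) = z * (αE - DecSh.mult k X L F)
  have hdvd : ∀ F : X.Modules, Coh.IsCoh F → DecSh.mult k X L F < αE → ∀ c : ℤ,
      ∃ z : ℤ, fc * c = z * (αE - DecSh.mult k X L F) := fun F hF hlt c => by
    have h0 := mult_nonneg' k hdim hL hF
    obtain ⟨w, hw⟩ : (αE - DecSh.mult k X L F) ∣ fc := by
      have h := Nat.dvd_factorial (m := (αE - DecSh.mult k X L F).toNat) (n := αE.toNat) (by omega) (by omega)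
      have h' : (((αE - DecSh.mult k X L F).toNat : ℕ) : ℤ) ∣ fc := by simp only [fc]; exact_mod_cast h
      rwa [Int.toNat_of_nonneg (by omega)] at h'
    exact ⟨w * c, by rw [hw]; ring⟩
  have hne : ∃ z, P z := by
    have hb : Coh.IsCoh ((⊥ : Subobject E) : X.Modules) := DevLib.isCoh_of_isZero (ShStabLib.bot_isZero E)
    have hbm : DecSh.mult k X L ((⊥ : Subobject E) : X.Modules) = 0 := by
      exact mult_isZero k (ShStabLib.bot_isZero E)
    obtain ⟨z, hz⟩ := hdvd _ hb (by omega) (e - Curv2.euler k X ((⊥ : Subobject E) : X.Modules))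
    exact ⟨z, _, (⊥ : Subobject E).arrow, inferInstance, hb, by omega, hz⟩
  have hbdd : ∃ b : ℤ, ∀ z, P z → b ≤ z := by
    refine ⟨min 0 (fc * (e - (Module.finrank k (Coh.HH X E 0) : ℤ))), ?_⟩
    rintro z ⟨F, ι, hι, hF, hlt, hz⟩
    haveI := hι
    rcases le_or_gt 0 z with h | h
    · exact le_trans (min_le_left _ _) h
    · refine le_trans (min_le_right _ _) (le_trans (mul_le_mul_of_nonneg_left
        (sub_le_sub_left (euler_sub_le k hdim hL ι hE) e) hfc.le) ?_)
      rw [hz]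
      nlinarith [mult_nonneg' k hdim hL hF]
  obtain ⟨z, ⟨F, ι, hι, hF, hlt, hz⟩, hmin⟩ := Int.exists_least_of_bdd hbdd hne
  have hmin' : ∀ (G : X.Modules) (j : G ⟶ E), Mono j → Coh.IsCoh G → DecSh.mult k X L G < αE →
      z * (αE - DecSh.mult k X L G) ≤ fc * (e - Curv2.euler k X G) := fun G j hj hG hG' => by
    obtain ⟨w, hw⟩ := hdvd G hG hG' (e - Curv2.euler k X G)
    rw [hw]
    exact mul_le_mul_of_nonneg_right (hmin w ⟨G, j, hj, hG, hG', hw⟩) (by omega)
  haveI := hι
  obtain ⟨hQ, hmQ, heQ⟩ := coker_facts k hdim hL ι hF hE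
  rw [hαE] at hmQ
  rw [he] at heQ
  have hzQ : fc * Curv2.euler k X (cokernel ι) = z * DecSh.mult k X L (cokernel ι) := by
    rw [show Curv2.euler k X (cokernel ι) = e - Curv2.euler k X F by omega,
      show DecSh.mult k X L (cokernel ι) = αE - DecSh.mult k X L F by omega]
    exact hz
  have hsub : ∀ (G : X.Modules) (g : G ⟶ cokernel ι), Mono g → Coh.IsCoh G →
      fc * Curv2.euler k X G ≤ z * DecSh.mult k X L G ∧
        (DecSh.mult k X L G = 0 → Curv2.euler k X G ≤ 0) := fun G g hg hG => by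
    haveI := hg
    obtain ⟨hC, hmC, heC⟩ := coker_facts k hdim hL g hG hQ
    have hCn := mult_nonneg' k hdim hL hC
    rcases eq_or_lt_of_le hCn with h0 | hpos
    · have h1 := euler_nonneg_of_mult_zero k hdim hL hC h0.symm
      have hG' : DecSh.mult k X L G = DecSh.mult k X L (cokernel ι) := by omega
      refine ⟨?_, fun h => by omega⟩
      rw [hG', ← hzQ]
      exact mul_le_mul_of_nonneg_left (by omega) hfc.le
    · let h : E ⟶ cokernel g := cokernel.π ι ≫ cokernel.π g
      haveI : Epi h := epi_comp _ _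
      have hK : Coh.IsCoh (kernel h) := (QCohLib.isCoh_kernel_cokernel h hE hC).1
      have hS : (ShortComplex.mk (kernel.ι h) h (kernel.condition h)).ShortExact :=
        ShortComplex.ShortExact.mk' (ShortComplex.exact_of_f_is_kernel _ (kernelIsKernel h)) inferInstance inferInstance
      have hadd := mult_additive k hdim hL hS hK hE hC
      simp only at hadd
      rw [hαE, he] at hadd
      have hm := hmin' _ (kernel.ι h) inferInstance hK (by omega)
      rw [show αE - DecSh.mult k X L (kernel h) = DecSh.mult k X L (cokernel g) by omega,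
        show e - Curv2.euler k X (kernel h) = Curv2.euler k X (cokernel g) by omega] at hm
      have hkey : fc * Curv2.euler k X G ≤ z * DecSh.mult k X L G := by
        rw [show Curv2.euler k X G = Curv2.euler k X (cokernel ι) - Curv2.euler k X (cokernel g) by omega,
          show DecSh.mult k X L G = DecSh.mult k X L (cokernel ι) - DecSh.mult k X L (cokernel g) by omega,
          mul_sub, mul_sub, hzQ]
        linarith
      refine ⟨hkey, fun h0 => ?_⟩
      rw [h0, mul_zero] at hkey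
      exact nonpos_of_mul_nonpos_right hkey hfc
  have hfq : (0 : ℚ) < (fc : ℚ) := by exact_mod_cast hfc
  refine ⟨F, ι, (z : ℚ) / (fc : ℚ), hι, hF, by omega, ?_, ?_, ?_, ?_, ?_⟩
  · rw [div_mul_eq_mul_div, eq_div_iff hfq.ne', mul_comm]
    exact_mod_cast hzQ
  · have hb : Coh.IsCoh ((⊥ : Subobject E) : X.Modules) := DevLib.isCoh_of_isZero (ShStabLib.bot_isZero E)
    have hbm : DecSh.mult k X L ((⊥ : Subobject E) : X.Modules) = 0 := by
      exact mult_isZero k (ShStabLib.bot_isZero E)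
    have h := hmin' _ (⊥ : Subobject E).arrow inferInstance hb (by omega)
    rw [hbm, euler_isZero' k (ShStabLib.bot_isZero E), sub_zero, sub_zero] at h
    rw [hαE, he, div_mul_eq_mul_div, div_le_iff₀ hfq]
    have h' : ((z * αE : ℤ) : ℚ) ≤ ((fc * e : ℤ) : ℚ) := by exact_mod_cast h
    push_cast at h'
    linarith
  · intro G g hg hG hG0
    have hd : DimLE 1 G := by
      refine lt_of_le_of_lt Topology.IsInducing.subtypeVal.topologicalKrullDim_le ?_
      rw [hdim]
      exact_mod_cast Nat.lt_succ_self 1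
    refine le_antisymm ?_ (not_lt.1 fun hlt' => ?_)
    · refine Topology.IsInducing.subtypeVal.topologicalKrullDim_le.trans (le_of_eq (hdim.trans ?_))
      simp
    · obtain ⟨P, hP, hα', -⟩ := DecShCurveLib.mult_eq_alpha k hdim hL hG
      have h0 : DecSh.mult k X L G = 0 := by
        exact_mod_cast hα'.trans (alpha_eq_zero k hL hG hlt' hP)
      exact absurd ((hsub G g hg hG).2 h0) (not_le.2 (euler_pos_of_mult_zero k hdim hL hG hG0 h0))
  · intro G g hg hG _
    rw [div_mul_eq_mul_div, le_div_iff₀ hfq, mul_comm]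
    exact_mod_cast (hsub G g hg hG).1
  · intro G j hj hG hG'
    rw [hαE] at hG' ⊢
    rw [he, div_mul_eq_mul_div, div_le_iff₀ hfq]
    have h := hmin' G j hj hG hG'
    have h' : ((z * (αE - DecSh.mult k X L G) : ℤ) : ℚ) ≤ ((fc * (e - Curv2.euler k X G) : ℤ) : ℚ) := by
      exact_mod_cast h
    push_cast at h'
    linarith

/-- The quotient sectional condition at a large twist bounds the slopes. -/
theorem exists_slopeBdd_of_quot (αE e : ℤ) (δ : ℚ) (hδ : 0 ≤ δ) (a : ℕ) :
    ∃ N : ℕ, ∀ E : X.Modules, Coh.IsCoh E → ShStab.IsPure X E 1 → DecSh.mult k X L E = αE →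
      Curv2.euler k X E = e → ∀ m, N ≤ m →
      (∀ (F : X.Modules) (ι : F ⟶ E), Mono ι → Coh.IsCoh F → ¬ IsZero F → ¬ IsIso ι →
        (DecSh.mult k X L (cokernel ι) : ℚ) * ((αE : ℚ) * m + e) -
          (αE : ℚ) * (Module.finrank k (Coh.HH X (ShStab.twist X L (cokernel ι) m) 0) : ℚ) ≤
          δ * (a : ℚ) * (DecSh.mult k X L (cokernel ι) : ℚ)) →
      SlopeBdd (k := k) L E (|(e : ℚ)| + |((e : ℚ) - δ * a) / αE| * |(αE : ℚ)|) := by
  haveI := EulerIneqLib.isNoetherian_proper (X := X) k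
  obtain ⟨g, hg, hdich⟩ := exists_dichotomy k hdim hL
  obtain ⟨T, hT⟩ := hdich ((e : ℚ) / αE)
  refine ⟨⌈(g : ℚ) * (2 + |(αE : ℚ)| * T + δ * a + |(e : ℚ)|)⌉.toNat + 1,
    fun E hE hp hα he m hm hcond => ?_⟩
  intro H j hj hH hH0
  haveI := hj
  obtain ⟨hm1, hm2⟩ := DecShCurveLib.mult_bounds k hdim hL hE hp j hH hH0
  rw [hα] at hm2
  have hpos : 0 < αE := by omega
  obtain ⟨F, ι, μ, hι, hF, hQpos, hμ, hμle, hQp, hQs, hmin⟩ :=
    exists_min_quot k hdim hL hE (by omega)
  rw [hα, he] at hμle hmin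
  haveI := hι
  obtain ⟨hQ, hmQ, heQ⟩ := coker_facts k hdim hL ι hF hE
  rw [hα] at hmQ
  rw [he] at heQ
  have hαq : (0 : ℚ) < (αE : ℚ) := by exact_mod_cast hpos
  have hμ' : μ ≤ (e : ℚ) / αE := (le_div_iff₀ hαq).2 hμle
  have hδa : 0 ≤ δ * (a : ℚ) := mul_nonneg hδ (Nat.cast_nonneg _)
  have hμlow : ((e : ℚ) - δ * a) / αE ≤ μ := by
    rw [div_le_iff₀ hαq]
    by_cases hF0 : IsZero F
    · have hmF : DecSh.mult k X L F = 0 := by
        exact mult_isZero k hF0
      have h1 : Curv2.euler k X (cokernel ι) = e := by rw [euler_isZero' k hF0] at heQ; omega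
      rw [h1, show DecSh.mult k X L (cokernel ι) = αE by omega] at hμ
      linarith
    · have hni : ¬ IsIso ι := fun h => by
        haveI := h
        have h0 : IsZero (cokernel ι) := isZero_cokernel_of_epi ι
        have : DecSh.mult k X L (cokernel ι) = 0 := by
          exact mult_isZero k h0
        omega
      have hc := hcond F ι hι hF hF0 hni
      have hQq : (0 : ℚ) < (DecSh.mult k X L (cokernel ι) : ℚ) := by exact_mod_cast hQpos
      have hQle : (DecSh.mult k X L (cokernel ι) : ℚ) ≤ (αE : ℚ) := by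
        exact_mod_cast (show DecSh.mult k X L (cokernel ι) ≤ αE by have := mult_nonneg' k hdim hL hF; omega)
      rcases hT (cokernel ι) hQ hQp (fun G g' hg' hG hG0 => (hQs G g' hg' hG hG0).trans
        (mul_le_mul_of_nonneg_right hμ' (by exact_mod_cast mult_nonneg' k hdim hL hG))) m with hv | hfew
      · rw [h0_eq_of_vanish k hdim hL _ m hQ hv, hμ] at hc
        have h3 : (DecSh.mult k X L (cokernel ι) : ℚ) * ((e : ℚ) - δ * a) ≤
            (DecSh.mult k X L (cokernel ι) : ℚ) * (μ * αE) := by linarith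
        exact le_of_mul_le_mul_left h3 hQq
      · exfalso
        have hm' : (g : ℚ) * (2 + |(αE : ℚ)| * T + δ * a + |(e : ℚ)|) < (m : ℚ) := by
          have h1 := Int.le_ceil ((g : ℚ) * (2 + |(αE : ℚ)| * T + δ * a + |(e : ℚ)|))
          have h2 : ((⌈(g : ℚ) * (2 + |(αE : ℚ)| * T + δ * a + |(e : ℚ)|)⌉.toNat + 1 : ℕ) : ℚ) ≤ m := by
            exact_mod_cast hm
          have h3 : (⌈(g : ℚ) * (2 + |(αE : ℚ)| * T + δ * a + |(e : ℚ)|)⌉ : ℚ) ≤
              ((⌈(g : ℚ) * (2 + |(αE : ℚ)| * T + δ * a + |(e : ℚ)|)⌉.toNat : ℕ) : ℚ) := by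
            exact_mod_cast Int.self_le_toNat _
          push_cast at h2
          linarith
        have hg' : (0 : ℚ) < (g : ℚ) := by exact_mod_cast hg
        have hm'' : 2 + |(αE : ℚ)| * T + δ * a + |(e : ℚ)| < (m : ℚ) / g := by
          rw [lt_div_iff₀ hg']; linarith
        rw [abs_of_pos hαq] at hm''
        have hne : -|(e : ℚ)| ≤ (e : ℚ) := neg_abs_le _
        have hT0 : (0 : ℚ) ≤ T := Nat.cast_nonneg _
        have h4 := mul_le_mul_of_nonneg_left hfew hαq.le
        have h5 : (DecSh.mult k X L (cokernel ι) : ℚ) * ((αE : ℚ) * T + δ * a - e) ≤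
            (αE : ℚ) * ((αE : ℚ) * T + δ * a + |(e : ℚ)|) :=
          (mul_le_mul_of_nonneg_left (by linarith) hQq.le).trans
            (mul_le_mul_of_nonneg_right hQle (by positivity))
        nlinarith [mul_lt_mul_of_pos_left hm'' hαq]
  have hHq : (1 : ℚ) ≤ (DecSh.mult k X L H : ℚ) := by exact_mod_cast hm1
  rcases hm2.lt_or_eq with hlt | heq
  · have h := hmin H j hj hH (by omega)
    have hd : (0 : ℚ) ≤ (αE : ℚ) - DecSh.mult k X L H := by
      have : (DecSh.mult k X L H : ℚ) ≤ αE := by exact_mod_cast hm2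
      linarith
    have h2 := mul_le_mul_of_nonneg_right hμlow hd
    have h3 : -(((e : ℚ) - δ * a) / αE * ((αE : ℚ) - DecSh.mult k X L H)) ≤
        |((e : ℚ) - δ * a) / αE| * |(αE : ℚ)| := by
      rw [← abs_mul]
      refine le_trans (neg_le_abs _) ?_
      rw [abs_mul, abs_mul]
      refine mul_le_mul_of_nonneg_left ?_ (abs_nonneg _)
      rw [abs_of_nonneg hd, abs_of_pos hαq]
      linarith
    have hn : 0 ≤ |(e : ℚ)| + |((e : ℚ) - δ * a) / αE| * |(αE : ℚ)| := by positivity
    nlinarith [le_abs_self (e : ℚ), mul_le_mul_of_nonneg_left hHq hn]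
  · obtain ⟨hC, hmC, heC⟩ := coker_facts k hdim hL j hH hE
    rw [hα] at hmC
    have hC0 := euler_nonneg_of_mult_zero k hdim hL hC (by omega)
    rw [he] at heC
    have hn : 0 ≤ |((e : ℚ) - δ * a) / αE| * |(αE : ℚ)| := by positivity
    have h6 : (Curv2.euler k X H : ℚ) ≤ (e : ℚ) := by exact_mod_cast (show Curv2.euler k X H ≤ e by omega)
    nlinarith [le_abs_self (e : ℚ), mul_le_mul_of_nonneg_left hHq (add_nonneg (abs_nonneg (e : ℚ)) hn)]

end Groth.Agent.CurveBddLib
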