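import Groth.Agent.CMRegLib.Bound
import Groth.Agent.CMRegLib.BoundFree
import Groth.Agent.CMRegLib.QuotBound
import Groth.Agent.HilbStratLib.ProjFibre
import Groth.Agent.ShStabLib.DimBound
import Groth.Agent.S1526
import Groth.Agent.AmpleEmb.TwistOne
import Groth.Agent.AmpleEmb.Serre
import Groth.Agent.HilbLib.Basic
import Groth.Agent.IntLib.Push
import Mathlib.FieldTheory.IsAlgClosed.AlgebraicClosure

/-!
# Modules with one-dimensional Hilbert polynomial: vanishing from one bound on `h¹`
-/

set_option autoImplicit false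
set_option backward.isDefEq.respectTransparency false
set_option linter.style.haveILetI false
set_option maxHeartbeats 800000

universe u

open CategoryTheory CategoryTheory.Limits AlgebraicGeometry

noncomputable section

namespace Groth.Agent.CurveBddLib

open CMRegLib

section Proj

variable {k : Type u} [Field k] {n : ℕ}

local notation "PS" => CohB1.ProjSpace n k
local notation "O(" d ")" => Twist.twistProjSpace n k d

theorem regular_of_euler_const {G : (PS).Modules} (hG : Coh.IsCoh G) (α : ℚ)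
    (h : ∀ r : ℤ, (Curv2.euler k PS (CohB1.tensorMod G (O(r))) : ℚ) = α) (m : ℤ) :
    Curv2.IsMRegular k n G m := by
  haveI : IsProper (PS ↘ Spec (CommRingCat.of k)) := CompleteCurve.isProper_toSpec n k
  haveI := EulerIneqLib.isNoetherian_proper (X := PS) k
  intro p hp _
  refine S1526.result k PS _ (isCoh_twistBy hG _) ?_ p hp
  rw [show CohB1.support (CohB1.tensorMod G (O(m - (p : ℤ)))) = CohB1.support G from HilbLib.support_tensor (isInvertible_O _) G]
  by_cases h0 : IsZero G
  · rw [HilbLib.support_eq_empty_of_isZero h0]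
    haveI : IsEmpty (TopologicalSpace.IrreducibleCloseds (∅ : Set (PS))) := ⟨fun c => by
      obtain ⟨z, -⟩ := c.isIrreducible.nonempty
      exact z.2⟩
    rw [topologicalKrullDim, Order.krullDim_eq_bot]
    exact bot_le
  have hP : ShStabLib.HP k (O(1)) G (Polynomial.C α) := fun m => by
    rw [Polynomial.eval_C, ← h (m : ℤ)]
    exact congrArg _ (CurveLib.euler_iso (K := k) (AmpleLib.tIso (Iso.refl G) (powTwistIso m)))
  rw [ShStabLib.dim_eq_natDegree k (AmpleEmb.isAmple_twistOne n k) hG h0 hP, Polynomial.natDegree_C]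
  exact le_rfl

/-- The case of an infinite field. -/
theorem vanish_infinite [Infinite k] (hn : 0 < n) {F : (PS).Modules} (hF : Coh.IsCoh F) (α e : ℚ)
    (hχ : ∀ r : ℤ, (Curv2.euler k PS (CohB1.tensorMod F (O(r))) : ℚ) = α * r + e)
    {d₀ : ℤ} {b : ℕ} (hb : h1 F d₀ ≤ b) {d : ℤ} (hd : d₀ + b ≤ d) : HT F d 1 := by
  haveI := isNoetherian_projSpace (k := k) (n := n)
  have hS : (⊥ : Submodule k (Fin (n + 1) → k)) ≠ ⊤ := bot_ne_top
  obtain ⟨c, -, hc, -⟩ := exists_general hF hF hS
  haveI := hc
  have hA := isCoh_twistBy hF (-1)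
  have hG : Coh.IsCoh (cokernel (linMap c F)) := isCoh_cokernel_linMap hF c
  have hreg := regular_of_euler_const hG α (fun r => by
    rw [euler_cokernel hF c r, Int.cast_sub, hχ, hχ, Int.cast_sub, Int.cast_one]
    ring) (d₀ + 1)
  obtain ⟨-, -, h, -⟩ := drop_main hF hG hA (Iso.refl _) (shortExact_coker (linMap c F)) hreg
  refine h d ?_
  rw [show d₀ + 1 - 1 = d₀ by ring]
  omega

theorem vanish_ps {F : (PS).Modules} (hF : Coh.IsCoh F) (α e : ℚ)
    (hχ : ∀ r : ℤ, (Curv2.euler k PS (CohB1.tensorMod F (O(r))) : ℚ) = α * r + e)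
    {d₀ : ℤ} {b : ℕ} (hb : h1 F d₀ ≤ b) {d : ℤ} (hd : d₀ + b ≤ d) : HT F d 1 := by
  rcases Nat.eq_zero_or_pos n with hn | hn
  · exact vanish_high hF d (by omega)
  let K := AlgebraicClosure k
  haveI : IsProper (PS ↘ Spec (CommRingCat.of k)) := CompleteCurve.isProper_toSpec n k
  haveI : IsProper (CohB1.ProjSpace n K ↘ Spec (CommRingCat.of K)) := CompleteCurve.isProper_toSpec n K
  haveI := isNoetherian_projSpace (k := K) (n := n)
  let FK := (Scheme.Modules.pullback (GenSeesawLib.bcMap n k K)).obj F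
  have hFK : Coh.IsCoh FK := PullbackMod.isCoh_pullback _ F hF
  have hfin : ∀ r : ℤ, h1 FK r = h1 F r := fun r => by
    obtain ⟨t⟩ := nonempty_tensor_pullback K F r
    obtain ⟨e'⟩ := nonempty_hh_bcMap K (isCoh_twistBy hF r).1 1
    refine (CMRegLib.hh_finrank_iso (k := K) t.symm 1).trans ?_
    haveI : Module.Free k (Coh.HH (PS) (CohB1.tensorMod F (O(r))) 1) := Module.Free.of_divisionRing k _
    rw [← e'.finrank_eq, Module.finrank_baseChange]
  have h := vanish_infinite hn hFK α e (fun r => by rw [euler_bcMap K hF r, hχ r]) (hfin d₀ ▸ hb) hd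
  haveI := EulerIneqLib.finite_HH (k := k) (X := PS) (isCoh_twistBy hF d) 1
  refine Module.finrank_zero_iff.1 (show h1 F d = 0 from ?_)
  rw [← hfin d]
  haveI : Subsingleton (Coh.HH (CohB1.ProjSpace n K) (CohB1.tensorMod FK (Twist.twistProjSpace n K d)) 1) := h
  exact Module.finrank_zero_of_subsingleton

end Proj

/-- Vanishing on a scheme in projective space. -/
theorem vanish_on {k : Type u} [Field k] {n : ℕ} {X : Scheme.{u}} [X.Over (Spec (CommRingCat.of k))]
    (i : X ⟶ CohB1.ProjSpace n k) [IsClosedImmersion i]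
    (hi : i ≫ CohB1.ProjSpace.toSpec n k = X ↘ Spec (CommRingCat.of k))
    {F : X.Modules} (hF : Coh.IsCoh F) (α e : ℚ)
    (hχ : ∀ r : ℤ, (Curv2.euler k X (Pic13.twistOn k i F r) : ℚ) = α * r + e)
    {d₀ : ℤ} {b : ℕ} (hb : Module.finrank k (Coh.HH X (Pic13.twistOn k i F d₀) 1) ≤ b) {d : ℤ} (hd : d₀ + b ≤ d) :
    Subsingleton (Coh.HH X (Pic13.twistOn k i F d) 1) := by
  haveI : IsProper (CohB1.ProjSpace n k ↘ Spec (CommRingCat.of k)) := CompleteCurve.isProper_toSpec n k
  haveI := isNoetherian_projSpace (k := k) (n := n)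
  haveI := isLocallyNoetherian_source i
  haveI : IsProper (X ↘ Spec (CommRingCat.of k)) := by
    haveI : IsProper (CohB1.ProjSpace.toSpec n k) := CompleteCurve.isProper_toSpec n k
    rw [← hi]; infer_instance
  refine (HT_push_iff i hF d 1).1 (vanish_ps (isCoh_push_closed i hF) α e (fun r => ?_) (le_trans (le_of_eq ?_) hb) hd)
  · rw [← hχ r]
    exact congrArg Int.cast (IntLib.euler_push_tensor k hi hF (isInvertible_O r))
  · haveI : Coh.IsQCoh (Pic13.twistOn k i F d₀) := (xIsCoh_twist hF d₀).1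
    exact (CMRegLib.hh_finrank_iso (k := k)
      (DCohLib.projIso i F (Twist.twistProjSpace n k d₀)) 1).trans
      (IntLib.finrank_push k i hi (Pic13.twistOn k i F d₀) 1)

end Groth.Agent.CurveBddLib
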