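import Groth.Agent.CurveBddLib.Step
import Groth.Agent.CurveBddLib.Bounded
import Groth.Agent.CurveBddLib.GG

/-!
# Sections of twists of slope-bounded modules, and sectional semistability
-/

set_option autoImplicit false
set_option backward.isDefEq.respectTransparency false
set_option linter.style.haveILetI false
set_option linter.unusedSectionVars false
set_option maxHeartbeats 1200000

universe u

open CategoryTheory CategoryTheory.Limits AlgebraicGeometry StabCat

noncomputable section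

namespace Groth.Agent.CurveBddLib

open ShStabLib CMRegLib

variable (k : Type u) [Field k] {X : Scheme.{u}} [X.Over (Spec (CommRingCat.of k))]
  [IsProper (X ↘ Spec (CommRingCat.of k))] (hdim : topologicalKrullDim X = 1) {L : X.Modules}
  (hL : CohB1.IsAmple L)

include hdim hL

theorem mult_nonneg' {F : X.Modules} (hF : Coh.IsCoh F) : 0 ≤ DecSh.mult k X L F := by
  obtain ⟨P, hP, hα, hd⟩ := DecShCurveLib.mult_eq_alpha k hdim hL hF
  exact_mod_cast hα ▸ alpha_nonneg k hL hF hd hP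

theorem euler_le_h0 (F : X.Modules) (m : ℕ) (hF : Coh.IsCoh F) :
    (DecSh.mult k X L F : ℚ) * m + Curv2.euler k X F ≤
      (Module.finrank k (Coh.HH X (ShStab.twist X L F m) 0) : ℚ) := by
  rw [← euler_twistL hdim hL hF m, euler_two (k := k) hdim]
  have : (0 : ℚ) ≤ (Module.finrank k (Coh.HH X (ShStab.twist X L F m) 1) : ℚ) := Nat.cast_nonneg _
  push_cast
  exact sub_le_self _ this

theorem h0_eq_of_vanish (F : X.Modules) (m : ℕ) (hF : Coh.IsCoh F)
    (h : Subsingleton (Coh.HH X (ShStab.twist X L F m) 1)) :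
    (Module.finrank k (Coh.HH X (ShStab.twist X L F m) 0) : ℚ) =
      (DecSh.mult k X L F : ℚ) * m + Curv2.euler k X F := by
  rw [← euler_twistL hdim hL hF m, euler_two (k := k) hdim]
  haveI : Subsingleton (Coh.HH X (CohB1.tensorMod F (CohB1.tensorPow L m)) 1) := h
  rw [Module.finrank_zero_of_subsingleton (R := k) (M := Coh.HH X (CohB1.tensorMod F (CohB1.tensorPow L m)) 1)]
  simp [ShStab.twist]

/-- A twist of a slope-bounded module is acyclic or has few sections. -/
theorem exists_dichotomy : ∃ g : ℕ, 0 < g ∧ ∀ c : ℚ, ∃ T : ℕ, ∀ F : X.Modules, Coh.IsCoh F →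
    ShStab.IsPure X F 1 → SlopeBdd (k := k) L F c → ∀ m : ℕ,
      Subsingleton (Coh.HH X (ShStab.twist X L F m) 1) ∨
        (Module.finrank k (Coh.HH X (ShStab.twist X L F m) 0) : ℚ) ≤
          (DecSh.mult k X L F : ℚ) * ((m : ℚ) + T) - (m : ℚ) / g + 1 := by
  haveI := EulerIneqLib.isNoetherian_proper (X := X) k
  obtain ⟨g, N, i, hg, hi, hcomp, ⟨eL⟩⟩ := NumBdd.exists_embedding_pow k hL
  haveI := hi
  refine ⟨g, hg, fun c => ?_⟩
  obtain ⟨h1O, hO⟩ : ∃ m : ℕ, Module.finrank k (Coh.HH X (Coh.structureModule X) 1) = m := ⟨_, rfl⟩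
  obtain ⟨s, hs⟩ : ∃ s : ℕ, s = ⌈c⌉.toNat + h1O + 2 := ⟨_, rfl⟩
  refine ⟨g * s, fun F hF hp hc m => ?_⟩
  obtain ⟨r, q, hr, rfl⟩ : ∃ r q, r < g ∧ m = r + g * q :=
    ⟨m % g, m / g, Nat.mod_lt _ hg, (Nat.mod_add_div m g).symm⟩
  have hgs : g ≤ g * s := Nat.le_mul_of_pos_right g (by omega)
  obtain ⟨t, ht⟩ : ∃ t : ℕ, t = g * s - r := ⟨_, rfl⟩
  have hrt : r + t = g * s := by omega
  have hlt : c + (Module.finrank k (Coh.HH X (Coh.structureModule X) 1) : ℚ) < t := by
    rw [hO]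
    have h3 : s - 1 ≤ g * (s - 1) := Nat.le_mul_of_pos_left _ hg
    rw [Nat.mul_sub, Nat.mul_one] at h3
    have h4 : ⌈c⌉.toNat + h1O + 1 ≤ t := by omega
    have h5 : c ≤ (⌈c⌉.toNat : ℚ) := le_trans (Int.le_ceil c) (by exact_mod_cast Int.self_le_toNat ⌈c⌉)
    have h6 : ((⌈c⌉.toNat + h1O + 1 : ℕ) : ℚ) ≤ (t : ℚ) := by exact_mod_cast h4
    push_cast at h6
    linarith
  have hFr : Coh.IsCoh (CohB1.tensorMod F (CohB1.tensorPow L r)) := HilbLib.isCoh_twist hL.1 hF r
  have hχ := euler_residueTwist hdim i hcomp hL eL hF r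
  haveI : Subsingleton (Coh.HH X (Pic13.twistOn k i (CohB1.tensorMod F (CohB1.tensorPow L r)) (-(s : ℤ))) 0) :=
    @ProjCoh.subsingleton_of_iso _ _ _ (AmpleLib.assoc F (CohB1.tensorPow L r) _).symm 0
      (subsingleton_H0 hdim hL hF hp hc
        (AmpleLib.isInvertible_tensor (AmpleLib.isInvertible_tensorPow hL.1 r)
          (AmpleLib.isInvertible_pullback i (isInvertible_O _))) (negTwistIso i eL hrt) hlt)
  have h0 := hχ (-(s : ℤ))
  rw [euler_two hdim, Module.finrank_zero_of_subsingleton] at h0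
  have hrt' : (r : ℚ) + (t : ℚ) = (g : ℚ) * (s : ℚ) := by exact_mod_cast hrt
  have hb : (Module.finrank k (Coh.HH X (Pic13.twistOn k i (CohB1.tensorMod F (CohB1.tensorPow L r)) (-(s : ℤ))) 1) : ℚ) =
      (DecSh.mult k X L F : ℚ) * (t : ℚ) - (Curv2.euler k X F : ℚ) := by
    push_cast at h0
    linear_combination -h0 - (DecSh.mult k X L F : ℚ) * hrt'
  have hstep := step_on i hcomp hFr ((DecSh.mult k X L F : ℚ) * (g : ℚ))
    ((DecSh.mult k X L F : ℚ) * (r : ℚ) + (Curv2.euler k X F : ℚ)) hχ (-(s : ℤ)) (s + q)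
  rw [show -(s : ℤ) + ((s + q : ℕ) : ℤ) = (q : ℤ) by push_cast; ring] at hstep
  haveI := EulerIneqLib.finite_HH (k := k) (X := X) (xIsCoh_twist (i := i) hFr (q : ℤ)) 1
  rcases hstep with h | h
  · exact Or.inl (@ProjCoh.subsingleton_of_iso _ _ _ (residueTwistIso i eL F r q) 1 (Module.finrank_zero_iff.1 h))
  · refine Or.inr ?_
    have h' : (Module.finrank k (Coh.HH X (Pic13.twistOn k i (CohB1.tensorMod F (CohB1.tensorPow L r)) (q : ℤ)) 1) : ℚ) +
        ((s : ℚ) + (q : ℚ)) ≤ (DecSh.mult k X L F : ℚ) * (t : ℚ) - (Curv2.euler k X F : ℚ) := by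
      rw [← hb]; exact_mod_cast h
    have hq := hχ (q : ℤ)
    rw [euler_two hdim] at hq
    push_cast at hq
    have e : Module.finrank k (Coh.HH X (ShStab.twist X L F (r + g * q)) 0) =
        Module.finrank k (Coh.HH X (Pic13.twistOn k i (CohB1.tensorMod F (CohB1.tensorPow L r)) (q : ℤ)) 0) :=
      CMRegLib.hh_finrank_iso (k := k) (residueTwistIso i eL F r q).symm 0
    rw [e]
    push_cast
    have hα : (0 : ℚ) ≤ (DecSh.mult k X L F : ℚ) := by exact_mod_cast mult_nonneg' k hdim hL hF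
    have hg' : (0 : ℚ) < (g : ℚ) := by exact_mod_cast hg
    have hr' : (r : ℚ) ≤ (g : ℚ) := by exact_mod_cast hr.le
    have hdiv : ((r : ℚ) + (g : ℚ) * (q : ℚ)) / (g : ℚ) ≤ (q : ℚ) + 1 := by
      rw [div_le_iff₀ hg']; linarith
    nlinarith [mul_nonneg hα (Nat.cast_nonneg (α := ℚ) r)]

theorem mult_additive {S : ShortComplex X.Modules} (hS : S.ShortExact) (h₁ : Coh.IsCoh S.X₁) (h₂ : Coh.IsCoh S.X₂)
    (h₃ : Coh.IsCoh S.X₃) :
    DecSh.mult k X L S.X₂ = DecSh.mult k X L S.X₁ + DecSh.mult k X L S.X₃ ∧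
      Curv2.euler k X S.X₂ = Curv2.euler k X S.X₁ + Curv2.euler k X S.X₃ := by
  haveI := EulerIneqLib.isNoetherian_proper (X := X) k
  refine ⟨?_, CurveLib.euler_shortExact (K := k) hS h₁ h₂ h₃⟩
  have hm : ∀ M : X.Modules, DecSh.mult k X L M = DegDevLib.twEuler k 1 L M := fun M => by
    rw [DecSh.mult, DegDevLib.twEuler, Nat.cast_one, one_mul]
    rfl
  rw [hm, hm, hm]
  exact DegDevLib.twEuler_shortExact k (CurveLib.isFinLocFreeOfRank_one hL.1) S hS h₁ h₂ h₃

/-- A coherent module of multiplicity zero has nonnegative Euler characteristic. -/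
theorem euler_pos_of_mult_zero {M : X.Modules} (hM : Coh.IsCoh M) (h0 : ¬ IsZero M)
    (hm : DecSh.mult k X L M = 0) : 0 < Curv2.euler k X M := by
  obtain ⟨P, hP, hα, hd⟩ := DecShCurveLib.mult_eq_alpha k hdim hL hM
  have hlc := lc_pos k hL hM h0 hd hP
  have hc1 : P.coeff 1 = 0 := by
    rw [hm, alpha] at hα
    simpa using hα.symm
  have hP0 : P = Polynomial.C (P.coeff 0) := Polynomial.eq_C_of_natDegree_le_zero
    (Polynomial.natDegree_le_iff_coeff_eq_zero.2 fun j hj => by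
      rcases eq_or_lt_of_le (Nat.one_le_iff_ne_zero.2 (by omega) : 1 ≤ j) with rfl | hj'
      · exact hc1
      · exact (Polynomial.degree_lt_iff_coeff_zero P 2).1 (degree_lt k hL hM hd hP) j (by exact_mod_cast hj'))
  rw [hP0, Polynomial.leadingCoeff_C] at hlc
  have h := hP 0
  rw [show (Curv2.euler k X (ShStab.twist X L M 0) : ℚ) = _ from euler_twistL hdim hL hM 0, hm, hP0,
    Polynomial.eval_C] at h
  have h2 : (0 : ℚ) < (Curv2.euler k X M : ℚ) := by
    push_cast at h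
    simp only [zero_mul, zero_add, mul_zero] at h
    linarith
  exact_mod_cast h2

end Groth.Agent.CurveBddLib
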