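import Groth.Agent.CurveBddLib.Reg

/-!
# Strict decrease of `h¹` along twists in dimension one
-/

set_option autoImplicit false
set_option backward.isDefEq.respectTransparency false
set_option linter.style.haveILetI false
set_option maxHeartbeats 800000

universe u

open CategoryTheory CategoryTheory.Limits AlgebraicGeometry

noncomputable section

namespace Groth.Agent.CurveBddLib

open CMRegLib

section Proj

variable {k : Type u} [Field k] {n : ℕ}

local notation "PS" => CohB1.ProjSpace n k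
local notation "O(" d ")" => Twist.twistProjSpace n k d

theorem step_infinite [Infinite k] {F : (PS).Modules} (hF : Coh.IsCoh F) (α e : ℚ)
    (hχ : ∀ r : ℤ, (Curv2.euler k PS (CohB1.tensorMod F (O(r))) : ℚ) = α * r + e) (d₀ : ℤ) (N : ℕ) :
    h1 F (d₀ + N) = 0 ∨ h1 F (d₀ + N) + N ≤ h1 F d₀ := by
  haveI : IsProper (PS ↘ Spec (CommRingCat.of k)) := CompleteCurve.isProper_toSpec n k
  haveI := isNoetherian_projSpace (k := k) (n := n)
  obtain ⟨c, -, hc, -⟩ := exists_general hF hF (bot_ne_top : (⊥ : Submodule k (Fin (n + 1) → k)) ≠ ⊤)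
  haveI := hc
  have hA := isCoh_twistBy hF (-1)
  have hG : Coh.IsCoh (cokernel (linMap c F)) := isCoh_cokernel_linMap hF c
  have hm : ∀ m : ℤ, Curv2.IsMRegular k n (cokernel (linMap c F)) m := regular_of_euler_const hG α fun r => by
    rw [euler_cokernel hF c r, Int.cast_sub, hχ, hχ, Int.cast_sub, Int.cast_one]
    ring
  have hS := shortExact_coker (linMap c F)
  have facts : ∀ j : ℤ, h1 F j ≤ h1 F (j - 1) ∧ (h1 F j = h1 F (j - 1) → SurjAt (cokernel.π (linMap c F)) j) ∧
      (SurjAt (cokernel.π (linMap c F)) j → h1 F j = h1 F (j - 1)) := fun j =>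
    h1_facts hF hG hA (Iso.refl _) hS (hm j) (by omega)
  induction N with
  | zero => exact Or.inr (by simp)
  | succ N ih =>
    have hj : d₀ + ((N + 1 : ℕ) : ℤ) - 1 = d₀ + N := by push_cast; ring
    have hle := (facts (d₀ + (N + 1 : ℕ))).1
    rw [hj] at hle
    rcases eq_or_ne (h1 F (d₀ + (N + 1 : ℕ))) 0 with h0 | h0
    · exact Or.inl h0
    refine Or.inr ?_
    rcases ih with ih | ih
    · omega
    rcases hle.lt_or_eq with hlt | heq
    · omega
    exfalso
    have hs := (facts (d₀ + (N + 1 : ℕ))).2.1 (by rw [hj]; exact heq)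
    obtain ⟨j, hjd⟩ : ∃ j : ℤ, j = d₀ + (N + 1 : ℕ) := ⟨_, rfl⟩
    rw [← hjd] at hs h0
    have hconst : ∀ l : ℕ, SurjAt (cokernel.π (linMap c F)) (j + l) ∧ h1 F (j + l) = h1 F j := by
      intro l
      induction l with
      | zero => simpa using hs
      | succ l ihl =>
        have e1 : j + ((l + 1 : ℕ) : ℤ) - 1 = j + l := by push_cast; ring
        have hs' : SurjAt (cokernel.π (linMap c F)) (j + (l + 1 : ℕ)) :=
          surjAt_succ hG (hm j) _ (by push_cast; omega) (by rw [e1]; exact ihl.1)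
        refine ⟨hs', ?_⟩
        rw [(facts _).2.2 hs', e1]
        exact ihl.2
    obtain ⟨d₁, hd₁⟩ := eventually_vanish hF (p := 1) one_pos
    have hz := (hconst (d₁ - j).toNat).2
    haveI := hd₁ (j + ((d₁ - j).toNat : ℕ)) (by omega)
    rw [h1, Module.finrank_zero_of_subsingleton] at hz
    exact h0 hz.symm

theorem step_ps {F : (PS).Modules} (hF : Coh.IsCoh F) (α e : ℚ)
    (hχ : ∀ r : ℤ, (Curv2.euler k PS (CohB1.tensorMod F (O(r))) : ℚ) = α * r + e) (d₀ : ℤ) (N : ℕ) :
    h1 F (d₀ + N) = 0 ∨ h1 F (d₀ + N) + N ≤ h1 F d₀ := by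
  let K := AlgebraicClosure k
  haveI : IsProper (PS ↘ Spec (CommRingCat.of k)) := CompleteCurve.isProper_toSpec n k
  haveI : IsProper (CohB1.ProjSpace n K ↘ Spec (CommRingCat.of K)) := CompleteCurve.isProper_toSpec n K
  haveI := isNoetherian_projSpace (k := K) (n := n)
  let FK := (Scheme.Modules.pullback (GenSeesawLib.bcMap n k K)).obj F
  have hFK : Coh.IsCoh FK := PullbackMod.isCoh_pullback _ F hF
  have hfin : ∀ r : ℤ, h1 FK r = h1 F r := fun r => by
    obtain ⟨t⟩ := nonempty_tensor_pullback K F r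
    obtain ⟨e'⟩ := nonempty_hh_bcMap K (isCoh_twistBy hF r).1 1
    refine (CMRegLib.hh_finrank_iso (k := K) t.symm 1).trans ?_
    haveI : Module.Free k (Coh.HH (PS) (CohB1.tensorMod F (O(r))) 1) := Module.Free.of_divisionRing k _
    rw [← e'.finrank_eq, Module.finrank_baseChange]
  rw [← hfin, ← hfin]
  exact step_infinite hFK α e (fun r => by rw [euler_bcMap K hF r, hχ r]) d₀ N

end Proj

/-- Strict decrease on a scheme in projective space. -/
theorem step_on {k : Type u} [Field k] {n : ℕ} {X : Scheme.{u}} [X.Over (Spec (CommRingCat.of k))]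
    (i : X ⟶ CohB1.ProjSpace n k) [IsClosedImmersion i]
    (hi : i ≫ CohB1.ProjSpace.toSpec n k = X ↘ Spec (CommRingCat.of k))
    {F : X.Modules} (hF : Coh.IsCoh F) (α e : ℚ)
    (hχ : ∀ r : ℤ, (Curv2.euler k X (Pic13.twistOn k i F r) : ℚ) = α * r + e) (d₀ : ℤ) (N : ℕ) :
    Module.finrank k (Coh.HH X (Pic13.twistOn k i F (d₀ + N)) 1) = 0 ∨
      Module.finrank k (Coh.HH X (Pic13.twistOn k i F (d₀ + N)) 1) + N ≤
        Module.finrank k (Coh.HH X (Pic13.twistOn k i F d₀) 1) := by
  haveI : IsProper (CohB1.ProjSpace n k ↘ Spec (CommRingCat.of k)) := CompleteCurve.isProper_toSpec n k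
  haveI := isNoetherian_projSpace (k := k) (n := n)
  haveI := isLocallyNoetherian_source i
  haveI : IsProper (X ↘ Spec (CommRingCat.of k)) := by
    haveI : IsProper (CohB1.ProjSpace.toSpec n k) := CompleteCurve.isProper_toSpec n k
    rw [← hi]; infer_instance
  have h : ∀ d : ℤ, h1 ((Scheme.Modules.pushforward i).obj F) d =
      Module.finrank k (Coh.HH X (Pic13.twistOn k i F d) 1) := fun d => by
    haveI : Coh.IsQCoh (Pic13.twistOn k i F d) := (xIsCoh_twist hF d).1
    exact (CMRegLib.hh_finrank_iso (k := k) (DCohLib.projIso i F (Twist.twistProjSpace n k d)) 1).trans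
      (IntLib.finrank_push k i hi (Pic13.twistOn k i F d) 1)
  rw [← h, ← h]
  refine step_ps (isCoh_push_closed i hF) α e (fun r => ?_) d₀ N
  rw [← hχ r]
  exact congrArg Int.cast (IntLib.euler_push_tensor k hi hF (isInvertible_O r))

end Groth.Agent.CurveBddLib
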