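import Groth.Agent.CurveBddLib.Final
import Groth.Agent.PureKillLib.Basic
import Groth.Agent.AssLib.Noetherian
import Groth.Agent.FibEmbLib.Torsion
import Groth.Agent.VBLib.Regular
import Groth.Agent.S1688

/-!
# Boundedness of bundles on smooth curves by the slopes of their quotients
-/

set_option autoImplicit false
set_option backward.isDefEq.respectTransparency false
set_option linter.style.haveILetI false
set_option linter.unusedSectionVars false
set_option maxHeartbeats 1600000

universe u

open CategoryTheory CategoryTheory.Limits AlgebraicGeometry TopologicalSpace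
open scoped TensorProduct

noncomputable section

namespace Groth.Agent.CurveBddLib

open ShStabLib CMRegLib

section pure

variable {X : Scheme.{u}} [AlgebraicGeometry.IsNoetherian X]

/-- A pure module of dimension one has no closed associated point. -/
theorem not_isAssPoint_closed {Q : X.Modules} (hQ : Coh.IsCoh Q) (hp : ShStab.IsPure X Q 1) {x : X}
    (hx : IsClosed ({x} : Set X)) : ¬ Curv2.IsAssPoint Q x := fun h => by
  haveI := hQ.1
  obtain ⟨W, hW, hxW, -⟩ := AssLib.exists_affine_mem x (U := ⊤) trivial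
  haveI : IsNoetherianRing Γ(X, W) := IsLocallyNoetherian.component_noetherian ⟨W, hW⟩
  obtain ⟨hp', s, hs⟩ := AssLib.mem_of_isAssPoint hW hxW (IsNoetherian.noetherian _) h
  have hs0 : s = 0 := by
    refine PureKill.eq_zero_of_pure ⟨_, DevLib.isClosed_support hQ⟩ hQ hp subset_rfl W s fun y hy _ hyc => ?_
    have hle : ¬ AssLib.pr hW hxW ≤ AssLib.pr hW hy := fun hle => by
      have hxy : x ⤳ y := (AssLib.specializes_iff hW hy hxW).2 hle
      have : y = x := Set.mem_singleton_iff.1 (hxy.mem_closed hx rfl)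
      exact hyc (this ▸ hx)
    obtain ⟨a, ha, hay⟩ := Set.not_subset.1 hle
    rw [hs] at ha
    obtain ⟨n, hn⟩ := ha
    rw [Submodule.mem_colon_singleton, Submodule.mem_bot] at hn
    exact (AssLib.germ_eq_zero_iff hW hy s).2 ⟨a ^ n, fun hh => hay (Ideal.IsPrime.mem_of_pow_mem inferInstance n hh), hn⟩
  refine hp'.ne_top ((Ideal.eq_top_iff_one _).2 ?_)
  rw [hs]
  refine Ideal.le_radical ?_
  rw [Submodule.mem_colon_singleton, hs0, smul_zero]
  exact Submodule.zero_mem _

/-- On a regular curve pure modules of dimension one are locally free. -/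
theorem flf_of_pure [VBLib.IsRegCurve X] (hdom : ∀ x : X, IsDomain (X.presheaf.stalk x))
    (hdim : topologicalKrullDim X ≤ 1) {Q : X.Modules} (hQ : Coh.IsCoh Q) (hp : ShStab.IsPure X Q 1) :
    FlatMod.IsFinLocFree Q := by
  refine S1688.isFinLocFree_of_free hQ fun x => ?_
  haveI := hQ.1
  haveI := hdom x
  haveI := VBLib.IsRegCurve.pir (X := X) x
  haveI := PullbackMod.finite_stalk_of_isFT hQ.2 x
  haveI : Module.IsTorsionFree (X.presheaf.stalk x) (Q.presheaf.stalk x) := by
    refine ⟨fun a ha => ?_⟩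
    have ha0 : a ≠ 0 := ha.ne_zero
    intro z w hzw
    by_contra hne
    have hz : z - w ≠ 0 := sub_ne_zero.2 hne
    have hz' : a • (z - w) = 0 := by
      rw [smul_sub]
      exact sub_eq_zero.2 hzw
    obtain ⟨P, hP, hle⟩ := exists_le_isAssociatedPrime_of_isNoetherianRing (X.presheaf.stalk x) (z - w) hz
    have haP : a ∈ P := hle (by rw [Submodule.mem_colon_singleton, Submodule.mem_bot]; exact hz')
    haveI := hP.isPrime
    have hPm : P = IsLocalRing.maximalIdeal (X.presheaf.stalk x) :=
      IsLocalRing.eq_maximalIdeal (IsPrime.to_maximal_ideal (S := P) fun h0 => ha0 (by simpa [h0] using haP))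
    by_cases hxc : IsClosed ({x} : Set X)
    · exact not_isAssPoint_closed hQ hp hxc (show IsAssociatedPrime _ _ from hPm ▸ hP)
    · have hg : FibEmbLib.GenPt x := fun v hv => by
        by_contra hvx
        obtain ⟨y, hy, hyx⟩ : ∃ y : X, x ⤳ y ∧ y ≠ x := by
          by_contra hcon
          push Not at hcon
          exact hxc (isClosed_iff_clusterPt.2 fun y hy => hcon y (specializes_iff_mem_closure.2 (by
            rwa [mem_closure_iff_clusterPt])))
        have hch : ¬ topologicalKrullDim (Set.univ : Set X) < ((2 : ℕ) : WithBot ℕ∞) := by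
          refine (HilbLib.not_dim_lt_iff isClosed_univ 2).2 ⟨![y, x, v], fun _ => trivial, fun i j hij => ?_⟩
          have h1 : v ⤳ y := hv.trans hy
          have h2 : y ≠ v := fun e => hvx ((hv.antisymm (e ▸ hy)).eq)
          fin_cases i <;> fin_cases j <;> first
            | exact absurd hij (by decide)
            | exact ⟨hy, hyx⟩
            | exact ⟨h1, h2⟩
            | exact ⟨hv, Ne.symm hvx⟩
        rw [(Homeomorph.Set.univ X).isHomeomorph.topologicalKrullDim_eq] at hch
        exact hch (lt_of_le_of_lt hdim (by exact_mod_cast Nat.lt_succ_self 1))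
      have hf := FibEmbLib.isField_of_genPt hg
      rw [IsLocalRing.isField_iff_maximalIdeal_eq] at hf
      rw [hPm, hf] at haP
      exact ha0 haP
  exact Module.free_of_finite_type_torsion_free'

end pure

variable (k : Type u) [Field k] {X : Scheme.{u}} [X.Over (Spec (CommRingCat.of k))]
  [IsProper (X ↘ Spec (CommRingCat.of k))] (hdim : topologicalKrullDim X = 1) {L : X.Modules}
  (hL : CohB1.IsAmple L)

include hdim hL

/-- Modules of multiplicity zero have no `H¹` in any twist. -/
theorem vanish_of_mult_zero {M : X.Modules} (hM : Coh.IsCoh M) (hm : DecSh.mult k X L M = 0) (j : ℕ) :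
    Subsingleton (Coh.HH X (CohB1.tensorMod M (CohB1.tensorPow L j)) 1) := by
  haveI := EulerIneqLib.isNoetherian_proper (X := X) k
  obtain ⟨P, hP, hα, hd⟩ := DecShCurveLib.mult_eq_alpha k hdim hL hM
  have hlt : topologicalKrullDim (CohB1.support M) < ((1 : ℕ) : WithBot ℕ∞) := by
    by_contra h
    have := alpha_pos k hL hM hd h hP
    rw [← hα, hm] at this
    simp at this
  refine CurveLib.subsingleton_HH_of_support _ (DevLib.isClosed_support hM) (fun x hx => ?_) (d := 0) ?_ zero_lt_one
  · by_contra hxM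
    have h : Subsingleton (M.presheaf.stalk x) := not_not.1 hxM
    have h' : Subsingleton (M.presheaf.stalk x ⊗[X.presheaf.stalk x] (CohB1.tensorPow L j).presheaf.stalk x) :=
      subsingleton_of_forall_eq 0 fun z => by
        induction z using TensorProduct.induction_on with
        | zero => rfl
        | tmul a b => rw [Subsingleton.elim a 0, TensorProduct.zero_tmul]
        | add a b ha hb => rw [ha, hb, add_zero]
    exact hx ((DCohLib.stalkTensor x M (CohB1.tensorPow L j)).toEquiv.symm.subsingleton)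
  · exact ShStabLib.le_of_lt_natCast_add_one _ 0 hlt

/-- The largest submodule of multiplicity zero. -/
theorem exists_pure_quot {E : X.Modules} (hE : Coh.IsCoh E) :
    ∃ (G : X.Modules) (ι : G ⟶ E), Mono ι ∧ Coh.IsCoh G ∧ DecSh.mult k X L G = 0 ∧
      ShStab.IsPure X (cokernel ι) 1 := by
  classical
  haveI := EulerIneqLib.isNoetherian_proper (X := X) k
  let P : ℤ → Prop := fun z => ∃ (G : X.Modules) (ι : G ⟶ E),
    Mono ι ∧ Coh.IsCoh G ∧ DecSh.mult k X L G = 0 ∧ Curv2.euler k X G = z
  have hbot : P 0 := ⟨_, (⊥ : Subobject E).arrow, inferInstance, DevLib.isCoh_of_isZero (ShStabLib.bot_isZero E),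
    mult_isZero k (ShStabLib.bot_isZero E), euler_isZero' k (ShStabLib.bot_isZero E)⟩
  obtain ⟨z, ⟨G, ι, hι, hG, hm, rfl⟩, hmax⟩ := Int.exists_greatest_of_bdd (P := P)
    ⟨_, fun z ⟨G, ι, hι, hG, _, he⟩ => he ▸ (haveI := hι; euler_sub_le k hdim hL ι hE)⟩ ⟨0, hbot⟩
  haveI := hι
  obtain ⟨hC, hmC, heC⟩ := coker_facts k hdim hL ι hG hE
  refine ⟨G, ι, hι, hG, hm, fun H j hj hH hH0 => ?_⟩
  haveI := hj
  have hd : DimLE 1 H := by
    refine lt_of_le_of_lt Topology.IsInducing.subtypeVal.topologicalKrullDim_le ?_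
    rw [hdim]
    exact_mod_cast Nat.lt_succ_self 1
  refine le_antisymm (ShStabLib.le_of_lt_natCast_add_one _ 1 hd) (not_lt.1 fun hlt' => ?_)
  obtain ⟨Q, hQ, hα', -⟩ := DecShCurveLib.mult_eq_alpha k hdim hL hH
  have hH1 : DecSh.mult k X L H = 0 := by exact_mod_cast hα'.trans (alpha_eq_zero k hL hH hlt' hQ)
  have hH2 := euler_pos_of_mult_zero k hdim hL hH hH0 hH1
  obtain ⟨hC', hmC', heC'⟩ := coker_facts k hdim hL j hH hC
  let h : E ⟶ cokernel j := cokernel.π ι ≫ cokernel.π j
  haveI : Epi h := epi_comp _ _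
  have hK : Coh.IsCoh (kernel h) := (QCohLib.isCoh_kernel_cokernel h hE hC').1
  have hS : (ShortComplex.mk (kernel.ι h) h (kernel.condition h)).ShortExact :=
    ShortComplex.ShortExact.mk' (ShortComplex.exact_of_f_is_kernel _ (kernelIsKernel h)) inferInstance inferInstance
  have hadd := mult_additive k hdim hL hS hK hE hC'
  simp only at hadd
  have := hmax _ ⟨_, kernel.ι h, inferInstance, hK, by omega, rfl⟩
  omega

/-- Lower bounds on quotient slopes give uniform vanishing. -/
theorem exists_vanish_of_quot (α e : ℤ) (μ₀ : ℚ) (hα : 0 ≤ α) :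
    ∃ j₀ : ℕ, ∀ E : X.Modules, Coh.IsCoh E → DecSh.mult k X L E = α → Curv2.euler k X E = e →
      (∀ (Q : X.Modules) (p : E ⟶ Q), Epi p → Coh.IsCoh Q → ShStab.IsPure X Q 1 → 0 < DecSh.mult k X L Q →
        μ₀ * (DecSh.mult k X L Q : ℚ) ≤ Curv2.euler k X Q) →
      ∀ j, j₀ ≤ j → Subsingleton (Coh.HH X (CohB1.tensorMod E (CohB1.tensorPow L j)) 1) := by
  classical
  haveI := EulerIneqLib.isNoetherian_proper (X := X) k
  let B : ℤ := ⌈|(e : ℚ)| + |μ₀| * (α : ℚ)⌉
  choose j₀ hj₀ using fun e' : ℤ => exists_uniform_vanish (k := k) hdim hL α e' (B : ℚ)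
  refine ⟨(Finset.Icc (min 0 (-B)) (max 0 e)).sup j₀, fun E hE hm he hq j hj => ?_⟩
  obtain ⟨G, ι, hι, hG, hG0, hp⟩ := exists_pure_quot k hdim hL hE
  haveI := hι
  obtain ⟨hC, hmC, heC⟩ := coker_facts k hdim hL ι hG hE
  have hGe := euler_nonneg_of_mult_zero k hdim hL hG hG0
  have hμ : |μ₀| * (α : ℚ) ≥ 0 := mul_nonneg (abs_nonneg _) (by exact_mod_cast hα)
  have hB : |(e : ℚ)| + |μ₀| * (α : ℚ) ≤ (B : ℚ) := Int.le_ceil _
  -- the pure quotient
  have hlow : DecSh.mult k X L (cokernel ι) = α := by omega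
  have he' : -B ≤ Curv2.euler k X (cokernel ι) ∨ 0 ≤ Curv2.euler k X (cokernel ι) := by
    rcases hα.eq_or_lt with h0 | hpos
    · refine Or.inr ?_
      by_cases hz : IsZero (cokernel ι)
      · rw [euler_isZero' k hz]
      · exact (euler_pos_of_mult_zero k hdim hL hC hz (by omega)).le
    · refine Or.inl ?_
      have h := hq _ (cokernel.π ι) inferInstance hC hp (by omega)
      rw [hlow] at h
      have h' : -(|μ₀| * (α : ℚ)) ≤ μ₀ * (α : ℚ) := by
        rw [← neg_mul]
        exact mul_le_mul_of_nonneg_right (neg_abs_le μ₀) (by exact_mod_cast hα)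
      have h'' : -(B : ℚ) ≤ (Curv2.euler k X (cokernel ι) : ℚ) := by linarith [abs_nonneg (e : ℚ)]
      exact_mod_cast h''
  have hmem : Curv2.euler k X (cokernel ι) ∈ Finset.Icc (min 0 (-B)) (max 0 e) :=
    Finset.mem_Icc.2 ⟨by omega, by omega⟩
  have hbdd : SlopeBdd (k := k) L (cokernel ι) (B : ℚ) := by
    intro H i hi hH hH0
    haveI := hi
    obtain ⟨hm1, hm2⟩ := DecShCurveLib.mult_bounds k hdim hL hC hp i hH hH0
    obtain ⟨hD, hmD, heD⟩ := coker_facts k hdim hL i hH hC
    have hm1' : (1 : ℚ) ≤ DecSh.mult k X L H := by exact_mod_cast hm1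
    have hBm : (B : ℚ) ≤ (B : ℚ) * DecSh.mult k X L H :=
      le_mul_of_one_le_right (by linarith [abs_nonneg (e : ℚ)]) hm1'
    refine le_trans ?_ hBm
    rcases eq_or_lt_of_le (mult_nonneg' k hdim hL hD) with h0 | hpos
    · have h1 := euler_nonneg_of_mult_zero k hdim hL hD h0.symm
      have h2 : (Curv2.euler k X H : ℚ) ≤ (e : ℚ) := by exact_mod_cast (by omega : Curv2.euler k X H ≤ e)
      linarith [le_abs_self (e : ℚ)]
    · -- a pure quotient of `E` through the cokernel
      obtain ⟨G', ι', hι', hG', hG'0, hp'⟩ := exists_pure_quot k hdim hL hD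
      haveI := hι'
      obtain ⟨hC', hmC', heC'⟩ := coker_facts k hdim hL ι' hG' hD
      have hGe' := euler_nonneg_of_mult_zero k hdim hL hG' hG'0
      have hb := hq _ (cokernel.π ι ≫ cokernel.π i ≫ cokernel.π ι')
        (@epi_comp _ _ _ _ _ (cokernel.π ι) inferInstance _ (epi_comp _ _)) hC' hp' (by omega)
      have hmq : (DecSh.mult k X L (cokernel ι') : ℚ) ≤ (α : ℚ) := by
        exact_mod_cast (by omega : DecSh.mult k X L (cokernel ι') ≤ α)
      have hmq0 : (0 : ℚ) ≤ (DecSh.mult k X L (cokernel ι') : ℚ) := by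
        exact_mod_cast mult_nonneg' k hdim hL hC'
      have h2 : (Curv2.euler k X H : ℚ) ≤ (e : ℚ) - Curv2.euler k X (cokernel ι') := by
        exact_mod_cast (by omega : Curv2.euler k X H ≤ e - Curv2.euler k X (cokernel ι'))
      have h3 : -(|μ₀| * (α : ℚ)) ≤ μ₀ * (DecSh.mult k X L (cokernel ι') : ℚ) := by
        have t1 := mul_le_mul_of_nonneg_right (neg_abs_le μ₀) hmq0
        have t2 := mul_le_mul_of_nonneg_left hmq (abs_nonneg μ₀)
        linarith
      linarith [le_abs_self (e : ℚ)]
  haveI h1 := vanish_of_mult_zero k hdim hL hG hG0 j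
  haveI h3 := hj₀ _ _ hC hp hlow rfl hbdd j ((Finset.le_sup hmem).trans hj)
  have hSe : ((ShortComplex.mk ι (cokernel.π ι) (cokernel.condition ι)).map
      (CurveLib.tensR (CohB1.tensorPow L j))).ShortExact :=
    CurveLib.shortExact_tensR (DevLib.cokerSeq_shortExact ι)
      (CurveLib.freeAt_one_of_isInvertible (AmpleLib.isInvertible_tensorPow hL.1 j))
  exact @CurveLib.subsingleton_mid X _ hSe 1 h1 h3

end Groth.Agent.CurveBddLib
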