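import Groth.Agent.CurveBddLib.Reg
import Groth.Agent.DecShCurveLib.Basic
import Groth.Agent.NumBddLib.Ample
import Groth.Agent.VBLib.H0Semistable

/-!
# Uniform vanishing for pure modules on curves with bounded slopes
-/

set_option autoImplicit false
set_option backward.isDefEq.respectTransparency false
set_option linter.style.haveILetI false
set_option linter.unusedSectionVars false
set_option maxHeartbeats 1200000

universe u

open CategoryTheory CategoryTheory.Limits AlgebraicGeometry Polynomial StabCat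

noncomputable section

namespace Groth.Agent.CurveBddLib

open ShStabLib CMRegLib

theorem vanish_ge_two (k : Type u) [Field k] {X : Scheme.{u}} [X.Over (Spec (CommRingCat.of k))]
    [IsProper (X ↘ Spec (CommRingCat.of k))] (hdim : topologicalKrullDim X = 1) (M : X.Modules) {p : ℕ} (hp : 2 ≤ p) : Subsingleton (Coh.HH X M p) :=
  haveI := EulerIneqLib.isNoetherian_proper (X := X) k
  CurveLib.subsingleton_HH_of_dim M (d := 1) (le_of_eq (by rw [hdim]; rfl)) (by omega)

variable {k : Type u} [Field k] {X : Scheme.{u}} [X.Over (Spec (CommRingCat.of k))]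
  [IsProper (X ↘ Spec (CommRingCat.of k))] (hdim : topologicalKrullDim X = 1)

include hdim in
theorem euler_two (M : X.Modules) :
    Curv2.euler k X M = (Module.finrank k (Coh.HH X M 0) : ℤ) - (Module.finrank k (Coh.HH X M 1) : ℤ) := by
  rw [CurveLib.euler_eq_sum (K := k) M 2 fun p hp => vanish_ge_two k hdim M hp, Finset.sum_range_succ,
    Finset.sum_range_one]
  ring

include hdim in
theorem euler_twistL {L : X.Modules} (hL : CohB1.IsAmple L) {M : X.Modules} (hM : Coh.IsCoh M) (m : ℕ) :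
    (Curv2.euler k X (CohB1.tensorMod M (CohB1.tensorPow L m)) : ℚ) =
      (DecSh.mult k X L M : ℚ) * m + Curv2.euler k X M := by
  obtain ⟨P, hP, hα, hd⟩ := DecShCurveLib.mult_eq_alpha k hdim hL hM
  have h0 : (Curv2.euler k X M : ℚ) = P.eval 0 := by
    have := hP 0
    rw [Nat.cast_zero] at this
    rw [← this]
    exact congrArg (fun z : ℤ => (z : ℚ)) (CurveLib.euler_iso (K := k) (AmpleLib.unitR M).symm)
  have hdeg := degree_lt k hL hM hd hP
  rw [show (Curv2.euler k X (CohB1.tensorMod M (CohB1.tensorPow L m)) : ℚ) = P.eval (m : ℚ) from hP m, hα, h0,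
    eq_X_add_C_of_degree_le_one ((degree_le_iff_coeff_zero P 1).2 fun j hj =>
      (degree_lt_iff_coeff_zero P 2).1 hdeg j (by exact_mod_cast hj))]
  simp [alpha]

/-- The subsheaves of slope at most `c`. -/
def SlopeBdd (L F : X.Modules) (c : ℚ) : Prop :=
  ∀ (G : X.Modules) (ι : G ⟶ F), Mono ι → Coh.IsCoh G → ¬ IsZero G →
    (Curv2.euler k X G : ℚ) ≤ c * (DecSh.mult k X L G : ℚ)

include hdim in
/-- No sections after a large negative twist. -/
theorem subsingleton_H0 {L : X.Modules} (hL : CohB1.IsAmple L) {F : X.Modules} (hF : Coh.IsCoh F)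
    (hp : ShStab.IsPure X F 1) {c : ℚ} (hc : SlopeBdd (k := k) L F c)
    {N : X.Modules} (hN : PicF.IsInvertible N) {t : ℕ}
    (eN : CohB1.tensorMod N (CohB1.tensorPow L t) ≅ Coh.structureModule X)
    (ht : c + (Module.finrank k (Coh.HH X (Coh.structureModule X) 1) : ℚ) < t) :
    Subsingleton (Coh.HH X (CohB1.tensorMod F N) 0) := by
  haveI := EulerIneqLib.isNoetherian_proper (X := X) k
  refine subsingleton_of_forall_eq 0 fun w => ?_
  by_contra hw
  let g : Coh.structureModule X ⟶ CohB1.tensorMod F N := VBLib.H0SS.sH w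
  have hFN : Coh.IsCoh (CohB1.tensorMod F N) := CMRegLib.isCoh_tensor_inv hF hN
  have hO : Coh.IsCoh (Coh.structureModule X) := DevLib.isCoh_structureModule _
  let G0 := Abelian.image g
  have hG0 : Coh.IsCoh G0 := isCoh_image' g hO hFN
  have hg : g ≠ 0 := fun h => hw (VBLib.H0SS.sH_injective (h.trans VBLib.H0SS.sH_zero.symm))
  have hz : ¬ IsZero G0 := fun h => hg (by
    rw [← Abelian.image.fac g, h.eq_of_src (Abelian.image.ι g) 0, Limits.comp_zero])
  let T := CurveLib.tensR (CohB1.tensorPow L t)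
  haveI : (CurveLib.tensR (CohB1.tensorPow L t)).IsEquivalence :=
    VBLib.isEquivalence_tensR (AmpleLib.comm _ _ ≪≫ eN)
  let back : CohB1.tensorMod (CohB1.tensorMod F N) (CohB1.tensorPow L t) ≅ F :=
    AmpleLib.assoc _ _ _ ≪≫ AmpleLib.tIso (Iso.refl F) eN ≪≫ AmpleLib.unitR F
  let ι : CohB1.tensorMod G0 (CohB1.tensorPow L t) ⟶ F := T.map (Abelian.image.ι g) ≫ back.hom
  haveI : Mono ι := @mono_comp _ _ _ _ _ (T.map (Abelian.image.ι g)) inferInstance back.hom inferInstance
  have hG : Coh.IsCoh (CohB1.tensorMod G0 (CohB1.tensorPow L t)) := HilbLib.isCoh_twist hL.1 hG0 t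
  have hGz : ¬ IsZero (CohB1.tensorMod G0 (CohB1.tensorPow L t)) := fun h =>
    hz ((IsZero.iff_id_eq_zero G0).2 (T.map_injective (by
      rw [T.map_id, T.map_zero]
      exact h.eq_of_src _ _)))
  have hb := hc _ ι inferInstance hG hGz
  have hm := (DecShCurveLib.mult_bounds k hdim hL hF hp ι hG hGz).1
  have hmq : (1 : ℚ) ≤ (DecSh.mult k X L (CohB1.tensorMod G0 (CohB1.tensorPow L t)) : ℚ) := by exact_mod_cast hm
  have h1 := euler_twistL (k := k) hdim hL hG 1
  have h2 := euler_twistL (k := k) hdim hL hG0 (t + 1)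
  rw [CurveLib.euler_iso (K := k) (AmpleLib.tIso (Iso.refl G0) (AmpleLib.powAdd L t 1) ≪≫
    (AmpleLib.assoc G0 (CohB1.tensorPow L t) (CohB1.tensorPow L 1)).symm)] at h2
  have h0 := euler_twistL (k := k) hdim hL hG0 t
  have hmult : (DecSh.mult k X L G0 : ℚ) = DecSh.mult k X L (CohB1.tensorMod G0 (CohB1.tensorPow L t)) := by
    push_cast at h1 h2
    linarith
  haveI := EulerIneqLib.finite_HH (k := k) (X := X) hO 1
  haveI := EulerIneqLib.finite_HH (k := k) (X := X) hG0 1
  have hS : (ShortComplex.mk (kernel.ι (Abelian.factorThruImage g)) (Abelian.factorThruImage g)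
      (kernel.condition _)).ShortExact :=
    ShortComplex.ShortExact.mk' (ShortComplex.exact_of_f_is_kernel _ (kernelIsKernel _)) inferInstance inferInstance
  have hsurj : Function.Surjective (CurveLib.hMap (k := k) (Abelian.factorThruImage g) 1) := by
    haveI := vanish_ge_two k hdim (kernel (Abelian.factorThruImage g)) (le_refl 2)
    refine LinearMap.range_eq_top.1 ((CurveLib.range_hMap_g hS 1).trans ?_)
    rw [LinearMap.ker_eq_top]
    exact LinearMap.ext fun _ => Subsingleton.elim _ _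
  have hle : (Module.finrank k (Coh.HH X G0 1) : ℚ) ≤ (Module.finrank k (Coh.HH X (Coh.structureModule X) 1) : ℚ) :=
    by exact_mod_cast LinearMap.finrank_le_finrank_of_surjective hsurj
  have hχ : (Curv2.euler k X G0 : ℚ) =
      (Module.finrank k (Coh.HH X G0 0) : ℚ) - (Module.finrank k (Coh.HH X G0 1) : ℚ) := by
    exact_mod_cast euler_two (k := k) hdim G0
  have hnn : (0 : ℚ) ≤ (Module.finrank k (Coh.HH X G0 0) : ℚ) := Nat.cast_nonneg _
  have hnn' : (0 : ℚ) ≤ (Module.finrank k (Coh.HH X (Coh.structureModule X) 1) : ℚ) := Nat.cast_nonneg _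
  rw [hmult] at h0
  nlinarith

variable {n : ℕ} (i : X ⟶ CohB1.ProjSpace n k) [IsClosedImmersion i]

theorem euler_twistOn_int (hi : i ≫ CohB1.ProjSpace.toSpec n k = X ↘ Spec (CommRingCat.of k))
    {F : X.Modules} (hF : Coh.IsCoh F) (P : ℚ[X])
    (h : ∀ q : ℕ, (Curv2.euler k X (Pic13.twistOn k i F (q : ℤ)) : ℚ) = P.eval (q : ℚ)) (r : ℤ) :
    (Curv2.euler k X (Pic13.twistOn k i F r) : ℚ) = P.eval (r : ℚ) := by
  haveI : IsProper (CohB1.ProjSpace n k ↘ Spec (CommRingCat.of k)) := CompleteCurve.isProper_toSpec n k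
  haveI := isNoetherian_projSpace (k := k) (n := n)
  haveI := isLocallyNoetherian_source i
  obtain ⟨Q, hQ⟩ := HilbStratLib.exists_euler_poly (isCoh_push_closed i hF)
  have hQ' : ∀ r : ℤ, (Curv2.euler k X (Pic13.twistOn k i F r) : ℚ) = Q.eval (r : ℚ) := fun r => by
    rw [← hQ r]
    exact (congrArg Int.cast (IntLib.euler_push_tensor k hi hF (isInvertible_O r))).symm
  rw [hQ' r, show P = Q from HilbLib.poly_eq_of_nat fun q => by rw [← h q, hQ', Int.cast_natCast]]

/-- `i^*O(-s) ⊗ i^*O(s) ≅ O`. -/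
def twistCancel (s : ℤ) :
    CohB1.tensorMod ((Scheme.Modules.pullback i).obj (Twist.twistProjSpace n k (-s)))
      ((Scheme.Modules.pullback i).obj (Twist.twistProjSpace n k s)) ≅ Coh.structureModule X :=
  AmpleLib.tIso (AmpleLib.unitL _).symm (Iso.refl _) ≪≫
    xMulIso k i (Coh.structureModule X) (neg_add_cancel s) ≪≫ xZero i _

/-- `i^*O(q) ≅ L^{aq}`. -/
def powIsoOf {L : X.Modules} {a : ℕ}
    (eL : (Scheme.Modules.pullback i).obj (Twist.twistProjSpace n k 1) ≅ CohB1.tensorPow L a) (q : ℕ) :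
    (Scheme.Modules.pullback i).obj (Twist.twistProjSpace n k (q : ℤ)) ≅ CohB1.tensorPow L (a * q) :=
  (Scheme.Modules.pullback i).mapIso (powTwistIso q).symm ≪≫ AmpleLib.pullPow i _ q ≪≫
    AmpleLib.powCongr eL q ≪≫ AmpleLib.powMul L a q

/-- `(F ⊗ L^r)(q) ≅ F ⊗ L^{r + aq}`. -/
def residueTwistIso {L : X.Modules} {a : ℕ}
    (eL : (Scheme.Modules.pullback i).obj (Twist.twistProjSpace n k 1) ≅ CohB1.tensorPow L a) (F : X.Modules)
    (r q : ℕ) :
    Pic13.twistOn k i (CohB1.tensorMod F (CohB1.tensorPow L r)) (q : ℤ) ≅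
      CohB1.tensorMod F (CohB1.tensorPow L (r + a * q)) :=
  AmpleLib.assoc F (CohB1.tensorPow L r) _ ≪≫
    AmpleLib.tIso (Iso.refl F) (AmpleLib.tIso (Iso.refl (CohB1.tensorPow L r)) (powIsoOf i eL q) ≪≫
      (AmpleLib.powAdd L r (a * q)).symm)

/-- `(L^r ⊗ i^*O(-s)) ⊗ L^t ≅ O` when `r + t = as`. -/
def negTwistIso {L : X.Modules} {a : ℕ}
    (eL : (Scheme.Modules.pullback i).obj (Twist.twistProjSpace n k 1) ≅ CohB1.tensorPow L a) {r t s : ℕ}
    (h : r + t = a * s) :
    CohB1.tensorMod (CohB1.tensorMod (CohB1.tensorPow L r)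
      ((Scheme.Modules.pullback i).obj (Twist.twistProjSpace n k (-(s : ℤ))))) (CohB1.tensorPow L t) ≅
        Coh.structureModule X :=
  AmpleLib.tIso (AmpleLib.comm _ _) (Iso.refl (CohB1.tensorPow L t)) ≪≫
    AmpleLib.assoc ((Scheme.Modules.pullback i).obj (Twist.twistProjSpace n k (-(s : ℤ)))) _ _ ≪≫
      AmpleLib.tIso (Iso.refl _) ((AmpleLib.powAdd L r t).symm ≪≫
        eqToIso (congrArg (CohB1.tensorPow L) h) ≪≫ (powIsoOf i eL s).symm) ≪≫ twistCancel i (s : ℤ)

include hdim in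
theorem euler_residueTwist (hi : i ≫ CohB1.ProjSpace.toSpec n k = X ↘ Spec (CommRingCat.of k))
    {L : X.Modules} (hL : CohB1.IsAmple L) {a : ℕ}
    (eL : (Scheme.Modules.pullback i).obj (Twist.twistProjSpace n k 1) ≅ CohB1.tensorPow L a) {F : X.Modules}
    (hF : Coh.IsCoh F) (r : ℕ) (x : ℤ) :
    (Curv2.euler k X (Pic13.twistOn k i (CohB1.tensorMod F (CohB1.tensorPow L r)) x) : ℚ) =
      ((DecSh.mult k X L F : ℚ) * (a : ℚ)) * (x : ℚ) + ((DecSh.mult k X L F : ℚ) * (r : ℚ) + Curv2.euler k X F) := by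
  haveI := EulerIneqLib.isNoetherian_proper (X := X) k
  have hFr : Coh.IsCoh (CohB1.tensorMod F (CohB1.tensorPow L r)) := HilbLib.isCoh_twist hL.1 hF r
  rw [euler_twistOn_int i hi hFr
    (Polynomial.C ((DecSh.mult k X L F : ℚ) * (a : ℚ)) * Polynomial.X +
      Polynomial.C ((DecSh.mult k X L F : ℚ) * (r : ℚ) + Curv2.euler k X F))
    (fun q => by
      rw [CurveLib.euler_iso (K := k) (residueTwistIso i eL F r q), euler_twistL hdim hL hF]
      simp only [eval_add, eval_mul, eval_C, eval_X]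
      push_cast
      ring) x]
  simp only [eval_add, eval_mul, eval_C, eval_X]

include hdim in
theorem vanish_residue (hi : i ≫ CohB1.ProjSpace.toSpec n k = X ↘ Spec (CommRingCat.of k))
    {L : X.Modules} (hL : CohB1.IsAmple L) {a : ℕ}
    (eL : (Scheme.Modules.pullback i).obj (Twist.twistProjSpace n k 1) ≅ CohB1.tensorPow L a) {F : X.Modules}
    (hF : Coh.IsCoh F) (hp : ShStab.IsPure X F 1) {c : ℚ} (hc : SlopeBdd (k := k) L F c) {r t s q : ℕ}
    (h : r + t = a * s) (ht : c + (Module.finrank k (Coh.HH X (Coh.structureModule X) 1) : ℚ) < t)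
    (hq : ((DecSh.mult k X L F : ℤ) * (t : ℤ) - Curv2.euler k X F).toNat ≤ q) :
    Subsingleton (Coh.HH X (CohB1.tensorMod F (CohB1.tensorPow L (r + a * q))) 1) := by
  haveI := EulerIneqLib.isNoetherian_proper (X := X) k
  have hχ := euler_residueTwist hdim i hi hL eL hF r
  haveI : Subsingleton (Coh.HH X (Pic13.twistOn k i (CohB1.tensorMod F (CohB1.tensorPow L r)) (-(s : ℤ))) 0) :=
    @ProjCoh.subsingleton_of_iso _ _ _ (AmpleLib.assoc F (CohB1.tensorPow L r) _).symm 0
      (subsingleton_H0 hdim hL hF hp hc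
        (AmpleLib.isInvertible_tensor (AmpleLib.isInvertible_tensorPow hL.1 r)
          (AmpleLib.isInvertible_pullback i (isInvertible_O _))) (negTwistIso i eL h) ht)
  have hFr : Coh.IsCoh (CohB1.tensorMod F (CohB1.tensorPow L r)) := HilbLib.isCoh_twist hL.1 hF r
  refine @ProjCoh.subsingleton_of_iso _ _ _ (residueTwistIso i eL F r q) 1
    (vanish_on i hi hFr ((DecSh.mult k X L F : ℚ) * (a : ℚ))
      ((DecSh.mult k X L F : ℚ) * (r : ℚ) + (Curv2.euler k X F : ℚ)) hχ (d₀ := -(s : ℤ))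
      (b := ((DecSh.mult k X L F : ℤ) * (t : ℤ) - Curv2.euler k X F).toNat) ?_ (d := (q : ℤ)) (by omega))
  have h7 := hχ (-(s : ℤ))
  rw [euler_two hdim, Module.finrank_zero_of_subsingleton] at h7
  have h' : (r : ℚ) + (t : ℚ) = (a : ℚ) * (s : ℚ) := by exact_mod_cast h
  have h8 : (Module.finrank k (Coh.HH X (Pic13.twistOn k i (CohB1.tensorMod F (CohB1.tensorPow L r)) (-(s : ℤ))) 1) : ℤ) =
      DecSh.mult k X L F * (t : ℤ) - Curv2.euler k X F := by
    have : ((Module.finrank k (Coh.HH X (Pic13.twistOn k i (CohB1.tensorMod F (CohB1.tensorPow L r)) (-(s : ℤ))) 1) : ℕ) : ℚ) =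
        (DecSh.mult k X L F : ℚ) * (t : ℚ) - (Curv2.euler k X F : ℚ) := by
      push_cast at h7
      linear_combination -h7 - (DecSh.mult k X L F : ℚ) * h'
    exact_mod_cast this
  omega

include hdim in
/-- Uniform vanishing. -/
theorem exists_uniform_vanish {L : X.Modules} (hL : CohB1.IsAmple L) (α e : ℤ) (c : ℚ) :
    ∃ j₀ : ℕ, ∀ F : X.Modules, Coh.IsCoh F → ShStab.IsPure X F 1 → DecSh.mult k X L F = α →
      Curv2.euler k X F = e → SlopeBdd (k := k) L F c →
        ∀ j, j₀ ≤ j → Subsingleton (Coh.HH X (CohB1.tensorMod F (CohB1.tensorPow L j)) 1) := by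
  obtain ⟨a, N, i, ha, hi, hcomp, ⟨eL⟩⟩ := NumBdd.exists_embedding_pow k hL
  haveI := hi
  obtain ⟨h1O, hO⟩ : ∃ m : ℕ, Module.finrank k (Coh.HH X (Coh.structureModule X) 1) = m := ⟨_, rfl⟩
  obtain ⟨s, hs⟩ : ∃ s : ℕ, s = ⌈c⌉.toNat + h1O + 2 := ⟨_, rfl⟩
  let b : ℕ → ℕ := fun r => (α * ((a * s - r : ℕ) : ℤ) - e).toNat
  refine ⟨a * (Finset.range a).sup b, fun F hF hp hα he hc j hj => ?_⟩
  obtain ⟨r, q, hr, rfl⟩ : ∃ r q, r < a ∧ j = r + a * q :=
    ⟨j % a, j / a, Nat.mod_lt _ ha, (Nat.mod_add_div j a).symm⟩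
  have h1 : a ≤ a * s := Nat.le_mul_of_pos_right a (by omega)
  have h2 : r + (a * s - r) = a * s := by omega
  refine vanish_residue hdim i hcomp hL eL hF hp hc h2 ?_ ?_
  · rw [hO]
    have h3 : s - 1 ≤ a * (s - 1) := Nat.le_mul_of_pos_left _ ha
    rw [Nat.mul_sub, Nat.mul_one] at h3
    have h4 : ⌈c⌉.toNat + h1O + 1 ≤ a * s - r := by omega
    have h5 : c ≤ (⌈c⌉.toNat : ℚ) := le_trans (Int.le_ceil c) (by exact_mod_cast Int.self_le_toNat ⌈c⌉)
    have h6 : ((⌈c⌉.toNat + h1O + 1 : ℕ) : ℚ) ≤ ((a * s - r : ℕ) : ℚ) := by exact_mod_cast h4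
    push_cast at h6
    linarith
  · rw [hα, he]
    have hbB : b r ≤ (Finset.range a).sup b := Finset.le_sup (Finset.mem_range.2 hr)
    refine hbB.trans ?_
    by_contra h
    have h9 : a * (q + 1) ≤ a * (Finset.range a).sup b := Nat.mul_le_mul le_rfl (by omega)
    rw [Nat.mul_succ] at h9
    omega

end Groth.Agent.CurveBddLib
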